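import Cfsg.Agent.H61.K6.Base
import Cfsg.Agent.H973.KB.Cyc
import Cfsg.Agent.H296.KB.Rank

/-!
# S4876: weights from cyclic theory (helper166)

`wtGe_of_cyc` : if the `p`-subgroups of `C_X(x)` are cyclic modulo `⟨x⟩` and `c ∈ C_X(x)` maps the `p`-element
`y ∈ C_X(x)`, `y ∉ ⟨x⟩`, to `y ^ j`, then the weight of `x` is at least the order of `j` modulo `p`.
-/

set_option autoImplicit false

open Cfsg Subgroup Cfsg.Agent.H61.K6

namespace Cfsg.Agent.H166.K6

universe u v

variable {p : ℕ}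

theorem wtGe_of_cyc {X : Type v} [Group X] [Finite X] {x y c : X} (hxo : ∃ k : ℕ, orderOf x = p ^ k)
    (hyx : y * x = x * y) (hcx : c * x = x * c) (hyo : ∃ k : ℕ, orderOf y = p ^ k) (hyn : y ∉ zpowers x) {j : ℕ}
    (hc : c * y * c⁻¹ = y ^ j)
    (hcyc : ∀ Q : Subgroup X, IsPGroup p Q → (∀ h ∈ Q, h * x = x * h) →
      ∃ g ∈ Q, ∀ h ∈ Q, ∃ i k : ℤ, h = g ^ i * x ^ k) :
    WtGe.{u, v} p x (orderOf (j : ZMod p)) := by
  intro M G _ _ K f hS
  have hp : Fact p.Prime := ⟨hS.prime⟩
  set C := centralizer ({((f x : K) : G)} : Set G) with hC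
  have hK := hS.normal
  -- the elements in `C`
  have hmem : ∀ z : X, z * x = x * z → ((f z : K) : G) ∈ C := by
    intro z hz
    rw [hC, mem_centralizer_singleton_iff]
    have := congrArg (fun t => ((f t : K) : G)) hz
    simpa using this
  have hord : ∀ (z : X) (hz : ((f z : K) : G) ∈ C), orderOf (⟨((f z : K) : G), hz⟩ : C) = orderOf z := by
    intro z hz
    rw [Subgroup.orderOf_mk, Subgroup.orderOf_coe, MulEquiv.orderOf_eq]
  let x' : C := ⟨((f x : K) : G), hmem x rfl⟩
  let y' : C := ⟨((f y : K) : G), hmem y hyx⟩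
  let c' : C := ⟨((f c : K) : G), hmem c hcx⟩
  have hinj : ∀ z w : X, ((f z : K) : G) = ((f w : K) : G) → z = w := fun z w h => f.injective (Subtype.ext h)
  have hxcen : ∀ g : C, g * x' = x' * g := fun g => Subtype.ext (mem_centralizer_singleton_iff.1 g.2)
  have hN : (zpowers x').Normal := by
    refine ⟨?_⟩
    rintro _ ⟨i, rfl⟩ g
    have h1 : g * x' ^ i * g⁻¹ = x' ^ i := by
      have h2 : Commute g (x' ^ i) := (show Commute g x' from hxcen g).zpow_right i
      rw [h2.eq, mul_inv_cancel_right]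
    exact ⟨i, h1.symm⟩
  set φ := QuotientGroup.mk' (zpowers x') with hφ
  have hφs : Function.Surjective φ := QuotientGroup.mk'_surjective _
  have hx'o : ∃ k : ℕ, orderOf x' = p ^ k := by
    obtain ⟨k, hk⟩ := hxo
    exact ⟨k, by rw [hord, hk]⟩
  have hNp : IsPGroup p (zpowers x') := by
    obtain ⟨k, hk⟩ := hx'o
    exact IsPGroup.of_card (n := k) (by rw [Nat.card_zpowers, hk])
  -- the Sylow subgroups of the quotient are cyclic
  obtain ⟨P⟩ : Nonempty (Sylow p (C ⧸ zpowers x')) := inferInstance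
  have hPc : IsCyclic (P : Subgroup (C ⧸ zpowers x')) := by
    set R := (P : Subgroup (C ⧸ zpowers x')).comap φ with hR
    have hRp : IsPGroup p R := by
      refine IsPGroup.comap_of_ker_isPGroup P.isPGroup' φ ?_
      rw [hφ, QuotientGroup.ker_mk']
      exact hNp
    -- the corresponding subgroup of `X`
    have hRK : R.map C.subtype ≤ K := by
      have h1 : IsPGroup p (R.map C.subtype) := hRp.map _
      intro g hg
      have h2 : orderOf (QuotientGroup.mk' K g) ∣ K.index := by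
        rw [Subgroup.index_eq_card]
        exact orderOf_dvd_natCard _
      obtain ⟨k, hk⟩ := (IsPGroup.iff_orderOf.1 h1) ⟨g, hg⟩
      have h3 : orderOf (QuotientGroup.mk' K g) ∣ p ^ k := by
        rw [← hk, Subgroup.orderOf_mk]
        exact orderOf_map_dvd _ g
      have h4 : (p ^ k).Coprime K.index :=
        Nat.Coprime.pow_left _ ((Nat.Prime.coprime_iff_not_dvd hp.out).2 hS.ndvd)
      have h5 : orderOf (QuotientGroup.mk' K g) = 1 := Nat.eq_one_of_dvd_coprimes h4 h3 h2
      rw [orderOf_eq_one_iff] at h5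
      exact (QuotientGroup.eq_one_iff g).1 h5
    let Q : Subgroup X := (R.map C.subtype).comap (K.subtype.comp f.toMonoidHom)
    have hQp : IsPGroup p Q := (hRp.map C.subtype).comap_of_injective _
      ((K.subtype_injective).comp f.injective)
    have hQx : ∀ h ∈ Q, h * x = x * h := by
      rintro h ⟨r, hr, hrh⟩
      have h1 : ((f h : K) : G) = (r : G) := hrh.symm
      apply hinj
      have h2 := mem_centralizer_singleton_iff.1 r.2
      simp only [map_mul, Subgroup.coe_mul, h1]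
      exact h2
    obtain ⟨g, hg, hgall⟩ := hcyc Q hQp hQx
    obtain ⟨r, hr, hrg⟩ := hg
    have hrg' : ((f g : K) : G) = (r : G) := hrg.symm
    refine ⟨⟨⟨φ r, hr⟩, ?_⟩⟩
    rintro ⟨w, hw⟩
    obtain ⟨s, rfl⟩ := hφs w
    have hsR : s ∈ R := hw
    have hsK : (s : G) ∈ K := hRK ⟨s, hsR, rfl⟩
    obtain ⟨t, ht⟩ := f.surjective ⟨s, hsK⟩
    have ht' : ((f t : K) : G) = (s : G) := congrArg Subtype.val ht
    obtain ⟨i, k, hik⟩ := hgall t ⟨s, hsR, ht'.symm⟩
    refine ⟨i, Subtype.ext ?_⟩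
    show φ r ^ i = φ s
    have h1 : s = r ^ i * x' ^ k := by
      apply Subtype.ext
      rw [← ht', hik]
      simp only [map_mul, map_zpow, Subgroup.coe_mul, Subgroup.coe_zpow, hrg']
      rfl
    rw [h1, map_mul, map_zpow, map_zpow]
    have h2 : φ x' = 1 := (QuotientGroup.eq_one_iff _).2 (mem_zpowers x')
    rw [h2, one_zpow, mul_one]
  -- the action
  have hy1 : φ y' ≠ 1 := by
    intro h
    have h1 : y' ∈ zpowers x' := (QuotientGroup.eq_one_iff _).1 h
    obtain ⟨i, hi⟩ := h1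
    apply hyn
    refine ⟨i, ?_⟩
    apply hinj
    have h2 : (x' : G) ^ i = (y' : G) := by
      rw [← Subgroup.coe_zpow]
      exact congrArg Subtype.val hi
    show ((f (x ^ i) : K) : G) = ((f y : K) : G)
    rw [map_zpow, Subgroup.coe_zpow]
    exact h2
  have hyo' : ∃ k : ℕ, orderOf (φ y') = p ^ k := by
    obtain ⟨k, hk⟩ := hyo
    have h1 : orderOf y' = p ^ k := by rw [hord, hk]
    obtain ⟨m, -, hm⟩ := (Nat.dvd_prime_pow hp.out).1 (h1 ▸ orderOf_map_dvd φ y')
    exact ⟨m, hm⟩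
  obtain ⟨m, hm⟩ := hyo'
  have hc' : φ c' * φ y' * (φ c')⁻¹ = φ y' ^ j := by
    rw [← map_mul, ← map_inv, ← map_mul, ← map_pow]
    congr 1
    apply Subtype.ext
    have h1 := congrArg (fun t => ((f t : K) : G)) hc
    simpa using h1
  have h1 := H973.KB.rank_cyclic hS.modular P hPc (φ y') (φ c') hy1 m hm j hc'
  exact h1.trans (H296.KB.rank_quot_le hS.modular φ hφs)

end Cfsg.Agent.H166.K6
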