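import Cfsg.Agent.H61.K6.Base

/-!
# S4876: fusion and weights (helper166)

* `not_compl_of_fus` : a `p`-element `y ≠ 1` conjugate to `y ^ j`, `j ≢ 1 mod p`: no normal `p`-complement;
* `wt_two_of_fus` : weight 2, if this happens in the centralizer of `x`.
-/

set_option autoImplicit false

open Cfsg Subgroup Cfsg.Agent.H61.K6

namespace Cfsg.Agent.H166.K6

variable {p : ℕ} [hp : Fact p.Prime]

theorem conj_iter {X : Type*} [Group X] {y c : X} {j : ℕ} (h : c * y * c⁻¹ = y ^ j) (m : ℕ) :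
    c ^ m * y * (c ^ m)⁻¹ = y ^ (j ^ m) := by
  induction m with
  | zero => simp
  | succ m ih =>
    have h1 : c ^ (m + 1) * y * (c ^ (m + 1))⁻¹ = c * (c ^ m * y * (c ^ m)⁻¹) * c⁻¹ := by
      rw [pow_succ']
      group
    rw [h1, ih, ← conj_pow, h, ← pow_mul, pow_succ']

/-- In a group with a normal `p`-complement a `p`-element is only conjugate to its powers `≡ 1 mod p`. -/
theorem not_compl_of_fus {X : Type*} [Group X] [Finite X] {y c : X} (hy1 : y ≠ 1) {k : ℕ} (hk : orderOf y = p ^ k)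
    {j : ℕ} (hj : (j : ZMod p) ≠ 1) (hc : c * y * c⁻¹ = y ^ j) : ¬ HasNormalPComplement p X := by
  intro h
  obtain ⟨N, hN, hpN, s, hs⟩ := OddOrderLocal.NilpotentQuotient.exists_of_hasNormalPComplement h
  set φ := QuotientGroup.mk' N with hφ
  have hyN : φ y ≠ 1 := by
    intro h1
    have h2 : y ∈ N := (QuotientGroup.eq_one_iff y).1 h1
    have h3 : orderOf y ∣ Nat.card N := by
      have := orderOf_dvd_natCard (⟨y, h2⟩ : N)
      rwa [← Subgroup.orderOf_coe] at this
    rcases Nat.eq_zero_or_pos k with rfl | hk0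
    · rw [pow_zero, orderOf_eq_one_iff] at hk
      exact hy1 hk
    · exact hpN ((dvd_pow_self p hk0.ne').trans (hk ▸ h3))
  have h1 : φ c * φ y * (φ c)⁻¹ = φ y ^ j := by
    rw [← map_mul, ← map_inv, ← map_mul, hc, map_pow]
  have h2 := conj_iter h1 (p ^ s)
  have h3 : φ c ^ (p ^ s) = 1 := by
    rw [← hs, Subgroup.index_eq_card]
    exact pow_card_eq_one'
  rw [h3, one_mul, inv_one, mul_one] at h2
  have h4 : orderOf (φ y) ∣ p ^ k := hk ▸ orderOf_map_dvd φ y
  obtain ⟨m, -, hm⟩ := (Nat.dvd_prime_pow hp.out).1 h4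
  have hm0 : m ≠ 0 := by
    rintro rfl
    rw [pow_zero, orderOf_eq_one_iff] at hm
    exact hyN hm
  have h5 : j ^ (p ^ s) ≡ 1 [MOD p ^ m] := by
    rw [← hm]
    exact (pow_eq_pow_iff_modEq.1 (by rw [pow_one]; exact h2.symm))
  have h6 : j ^ (p ^ s) ≡ 1 [MOD p] := h5.of_dvd (dvd_pow_self p hm0)
  have h7 : ((j : ZMod p)) ^ (p ^ s) = 1 := by
    have := (ZMod.natCast_eq_natCast_iff _ _ _).2 h6
    push_cast at this
    exact this
  rw [ZMod.pow_card_pow] at h7
  exact hj h7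

/-- Weight two. -/
theorem wt_two_of_fus {X : Type*} [Group X] [Finite X] {x y c : X} (hyx : y * x = x * y) (hcx : c * x = x * c)
    (hy1 : y ≠ 1) {k : ℕ} (hk : orderOf y = p ^ k) {j : ℕ} (hj : (j : ZMod p) ≠ 1) (hc : c * y * c⁻¹ = y ^ j) :
    wt p x = 2 := by
  apply wt_eq_two
  let y' : ↥(centralizer ({x} : Set X)) := ⟨y, mem_centralizer_singleton_iff.2 hyx⟩
  let c' : ↥(centralizer ({x} : Set X)) := ⟨c, mem_centralizer_singleton_iff.2 hcx⟩
  refine not_compl_of_fus (y := y') (c := c') ?_ (k := k) ?_ hj ?_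
  · intro h
    exact hy1 (congrArg Subtype.val h)
  · rw [← hk, ← Subgroup.orderOf_coe]
  · apply Subtype.ext
    simpa using hc

/-- The inverting form. -/
theorem wt_two_of_inv (hp2 : p ≠ 2) {X : Type*} [Group X] [Finite X] {x y c : X} (hyx : y * x = x * y)
    (hcx : c * x = x * c) (hy1 : y ≠ 1) (hyp : y ^ p = 1) (hc : c * y = y⁻¹ * c) : wt p x = 2 := by
  have hk : orderOf y = p ^ 1 := by rw [pow_one]; exact orderOf_eq_prime hyp hy1
  have hp1 : 1 < p := hp.out.one_lt
  refine wt_two_of_fus hyx hcx hy1 hk (j := p - 1) ?_ ?_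
  · rw [Nat.cast_sub hp1.le, ZMod.natCast_self, zero_sub, Nat.cast_one]
    intro h
    have h1 : ((2 : ℕ) : ZMod p) = 0 := by
      push_cast
      linear_combination -h
    rw [ZMod.natCast_eq_zero_iff] at h1
    exact hp2 ((Nat.prime_dvd_prime_iff_eq hp.out Nat.prime_two).1 h1)
  · rw [hc, mul_inv_cancel_right]
    apply inv_eq_of_mul_eq_one_right
    rw [← pow_succ', Nat.sub_add_cancel hp1.le, hyp]

theorem not_compl_of_inv (hp2 : p ≠ 2) {X : Type*} [Group X] [Finite X] {y c : X}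
    (hy1 : y ≠ 1) (hyp : y ^ p = 1) (hc : c * y = y⁻¹ * c) : ¬ HasNormalPComplement p X := by
  have hk : orderOf y = p ^ 1 := by rw [pow_one]; exact orderOf_eq_prime hyp hy1
  have hp1 : 1 < p := hp.out.one_lt
  refine not_compl_of_fus (c := c) hy1 hk (j := p - 1) ?_ ?_
  · rw [Nat.cast_sub hp1.le, ZMod.natCast_self, zero_sub, Nat.cast_one]
    intro h
    have h1 : ((2 : ℕ) : ZMod p) = 0 := by
      push_cast
      linear_combination -h
    rw [ZMod.natCast_eq_zero_iff] at h1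
    exact hp2 ((Nat.prime_dvd_prime_iff_eq hp.out Nat.prime_two).1 h1)
  · rw [hc, mul_inv_cancel_right]
    apply inv_eq_of_mul_eq_one_right
    rw [← pow_succ', Nat.sub_add_cancel hp1.le, hyp]

end Cfsg.Agent.H166.K6
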