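import Cfsg.Agent.H166.K6.PsuDiag

/-!
# S4876: the row `PSU_n(q)`, `n ≥ 4`, `p ∣ q + 1` (helper166)
-/

set_option autoImplicit false

open Cfsg Matrix Cfsg.Agent.LieClassical.HermBasic Cfsg.Agent.LieClassical.HermSiegel
  Cfsg.Agent.LieClassical.SUBasic Cfsg.Agent.H61.K6
open Cfsg.Agent.ClassicalGeometry.UnitAutBasic (pr pr_surjective pr_eq_pr_iff exists_scalar_of_pr_eq
  exists_scalar_of_mem_center)

namespace Cfsg.Agent.H166.K6

universe u

/-- The entries `u` followed by ones. -/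
def ap {F : Type*} [Field F] (m : ℕ) (u : Fin 4 → F) : Fin (4 + m) → F := Fin.append u fun _ => 1

section

variable {F : Type*} [Field F] {q m : ℕ}

theorem ap_prod {u : Fin 4 → F} (h : ∏ i, u i = 1) : ∏ i, ap m u i = 1 := by
  rw [ap, Fin.prod_univ_add]
  simp [h]

theorem ap_all (P : F → Prop) {u : Fin 4 → F} (h : ∀ i, P (u i)) (h1 : P 1) (i : Fin (4 + m)) : P (ap m u i) := by
  rw [ap]
  refine Fin.addCases (fun j => ?_) (fun j => ?_) i
  · rw [Fin.append_left]; exact h j
  · rw [Fin.append_right]; exact h1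

theorem ap_left {u : Fin 4 → F} (i : Fin 4) : ap m u (Fin.castAdd m i) = u i := Fin.append_left _ _ _

theorem cnt_ap [DecidableEq F] (u : Fin 4 → F) : cnt (ap m u) = (∑ i, ∑ j, if u i = u j then 1 else 0) +
    2 * (m * ∑ i, if u i = 1 then 1 else 0) + m * m := by
  have h1 : ∀ i : Fin 4, (∑ j : Fin (4 + m), if ap m u (Fin.castAdd m i) = ap m u j then 1 else 0) =
      (∑ j, if u i = u j then 1 else 0) + m * (if u i = 1 then 1 else 0) := by
    intro i
    rw [Fin.sum_univ_add]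
    simp only [ap, Fin.append_left, Fin.append_right, Finset.sum_const, Finset.card_univ, Fintype.card_fin, smul_eq_mul]
  have h2 : ∀ i : Fin m, (∑ j : Fin (4 + m), if ap m u (Fin.natAdd 4 i) = ap m u j then 1 else 0) =
      (∑ j, if u j = 1 then 1 else 0) + m := by
    intro i
    rw [Fin.sum_univ_add]
    simp only [ap, Fin.append_left, Fin.append_right, Finset.sum_const, Finset.card_univ, Fintype.card_fin, smul_eq_mul,
      if_true, mul_one]
    congr 1
    refine Finset.sum_congr rfl fun j _ => ?_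
    by_cases h : u j = 1
    · rw [if_pos h, if_pos h.symm]
    · rw [if_neg h, if_neg (Ne.symm h)]
  rw [cnt, Fin.sum_univ_add]
  simp only [h1, h2, Finset.sum_add_distrib, Finset.sum_const, Finset.card_univ, Fintype.card_fin, smul_eq_mul,
    ← Finset.mul_sum]
  ring

/-- The quadratic argument. -/
theorem no_semi {w : F} (hw1 : w ≠ 1) (hww : w⁻¹ ≠ w) {n : ℕ} {a b : Fin n → F} {hd : ∏ i, a i = 1}
    {ha : ∀ i, a i ^ (q + 1) = 1} {hd' : ∏ i, b i = 1} {hb : ∀ i, b i ^ (q + 1) = 1}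
    (S : Semi (suDiag q b hd' hb) (suDiag q a hd ha)) (hbw : ∀ i, b i = 1 ∨ b i = w)
    {i j k : Fin n} (hi : a i = w) (hj : a j = w⁻¹) (hk : a k = 1) : False := by
  have h1 : ∀ (v : Fin n → F) (l : Fin n), a l ≠ S.c → a l ≠ S.c * S.ρ w → S.Φ v l = 0 := by
    intro v l h1 h2
    have e1 : ∀ x : Fin n → F, act (suDiag q b hd' hb) (act (suDiag q b hd' hb) x - w • x) =
        act (suDiag q b hd' hb) x - w • x := by
      intro x
      funext t
      simp only [act_def, mat_suDiag, Matrix.mulVec_diagonal, Pi.sub_apply, Pi.smul_apply, smul_eq_mul]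
      rcases hbw t with h | h
      · rw [h]; ring
      · rw [h]; ring
    have e2 := congrFun (S.eq v) l
    have e3 := congrFun (S.eq (act (suDiag q b hd' hb) v - w • v)) l
    rw [e1] at e3
    have e4 : S.Φ (act (suDiag q b hd' hb) v - w • v) = S.Φ (act (suDiag q b hd' hb) v) - S.ρ w • S.Φ v := by
      have e5 : act (suDiag q b hd' hb) v = (act (suDiag q b hd' hb) v - w • v) + w • v := by abel
      rw [eq_sub_iff_add_eq, ← S.smul, ← S.add, ← e5]
    rw [e4] at e3
    simp only [act_def, mat_suDiag, Matrix.mulVec_diagonal, Pi.sub_apply, Pi.smul_apply, smul_eq_mul] at e2 e3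
    have e6 : S.c * (S.c * ((S.Φ (diagonal b *ᵥ v)) l - S.ρ w * S.Φ v l)) =
        a l * (S.c * (S.Φ (diagonal b *ᵥ v) l - S.ρ w * S.Φ v l)) := by
      linear_combination -S.c * e3
    have e7 : (a l - S.c) * ((a l - S.c * S.ρ w) * S.Φ v l) = 0 := by
      linear_combination (a l) * e2 - S.c * e2 - e6
    rcases mul_eq_zero.1 e7 with h | h
    · exact absurd (sub_eq_zero.1 h) h1
    · rcases mul_eq_zero.1 h with h | h
      · exact absurd (sub_eq_zero.1 h) h2
      · exact h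
  have h2 : ∀ l : Fin n, a l = S.c ∨ a l = S.c * S.ρ w := by
    intro l
    by_contra hcon
    push Not at hcon
    obtain ⟨v, hv⟩ := S.Φ.surjective (fun _ => 1)
    have := h1 v l hcon.1 hcon.2
    rw [hv] at this
    exact one_ne_zero this
  have hw1' : w⁻¹ ≠ 1 := fun h => hw1 (inv_eq_one.1 h)
  rcases h2 i with h3 | h3 <;> rcases h2 j with h4 | h4 <;> rcases h2 k with h5 | h5 <;>
    rw [hi] at h3 <;> rw [hj] at h4 <;> rw [hk] at h5 <;>
    first
      | exact hww (h4.trans h3.symm)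
      | exact hw1 (h3.trans h5.symm)
      | exact hw1' (h4.trans h5.symm)

end

section row

variable {p : ℕ} [hp : Fact p.Prime] {F : Type} [Field F] [Fintype F] {q : ℕ}

/-- an element of order `p` and norm one -/
theorem exists_w (hF : Fintype.card F = q ^ 2) (hpq : p ∣ q + 1) : ∃ w : F, w ≠ 1 ∧ w ^ p = 1 ∧ w ^ (q + 1) = 1 := by
  have h1 : p ∣ Nat.card Fˣ := by
    rw [card_units_eq hF]
    exact hpq.mul_right _
  obtain ⟨w, hw⟩ := exists_prime_orderOf_dvd_card' p h1
  have hwp : (w : F) ^ p = 1 := by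
    rw [← Units.val_pow_eq_pow_val, ← hw, pow_orderOf_eq_one, Units.val_one]
  refine ⟨w, ?_, hwp, ?_⟩
  · intro h
    have h2 : w = 1 := Units.ext h
    rw [h2, orderOf_one] at hw
    exact hp.out.one_lt.ne hw
  · obtain ⟨t, ht⟩ := hpq
    rw [ht, pow_mul, hwp, one_pow]

/-- **Row** `PSU_n(q)`, `n ≥ 4`, `p ∣ q + 1`. -/
theorem row_psu_one (hp2 : p ≠ 2) (hF : Fintype.card F = q ^ 2) {n : ℕ} (hn : 4 ≤ n) (hpq : p ∣ q + 1) :
    KRow.{u, 0} p (PSU n F q) := by
  classical
  obtain ⟨m, rfl⟩ : ∃ m, n = 4 + m := ⟨n - 4, by omega⟩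
  obtain ⟨w, hw1, hwp, hwq⟩ := exists_w (p := p) hF hpq
  have : Finite (SU (4 + m) F q) := Finite.of_injective (mat : SU (4 + m) F q → _) mat_injective
  have hw0 : w ≠ 0 := by
    rintro rfl
    rw [zero_pow hp.out.ne_zero] at hwp
    exact zero_ne_one hwp
  have hord : orderOf w = p := orderOf_eq_prime hwp hw1
  have hpow : ∀ k : ℕ, k ≠ 0 → k < p → w ^ k ≠ 1 := by
    intro k hk hkp h
    have := orderOf_dvd_of_pow_eq_one h
    rw [hord] at this
    exact absurd (Nat.le_of_dvd (Nat.pos_of_ne_zero hk) this) (by omega)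
  have hp3 : 3 ≤ p := by
    have := hp.out.two_le
    omega
  have hw2 : w ^ 2 ≠ 1 := hpow 2 (by norm_num) (by omega)
  have hw1' : w⁻¹ ≠ 1 := fun h => hw1 (inv_eq_one.1 h)
  have hww : w ≠ w⁻¹ := by
    intro h
    apply hw2
    rw [pow_two]
    nth_rw 2 [h]
    exact mul_inv_cancel₀ hw0
  have hX := not_compl_psu hp2 hF (n := 4 + m) (by omega) hw1 hwp hwq
  have hinvp : (w⁻¹) ^ p = 1 := by rw [inv_pow, hwp, inv_one]
  have hinvq : (w⁻¹) ^ (q + 1) = 1 := by rw [inv_pow, hwq, inv_one]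
  have h32 : ¬ (4 + m = 3 ∧ q = 2) := by omega
  -- the elements
  let u₁ : Fin 4 → F := ![w, w⁻¹, 1, 1]
  let u₃ : Fin 4 → F := ![w, w, w⁻¹, w⁻¹]
  have hu₁d : ∏ i, u₁ i = 1 := by simp [u₁, Fin.prod_univ_four, mul_inv_cancel₀ hw0]
  have hu₃d : ∏ i, u₃ i = 1 := by simp [u₃, Fin.prod_univ_four, mul_inv_cancel₀ hw0, mul_assoc]
  have hu₁q : ∀ i, u₁ i ^ (q + 1) = 1 := by
    intro i; fin_cases i <;> simp [u₁, hwq, hinvq]
  have hu₃q : ∀ i, u₃ i ^ (q + 1) = 1 := by
    intro i; fin_cases i <;> simp [u₃, hwq, hinvq]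
  have hu₁p : ∀ i, u₁ i ^ p = 1 := by
    intro i; fin_cases i <;> simp [u₁, hwp]
  have hu₃p : ∀ i, u₃ i ^ p = 1 := by
    intro i; fin_cases i <;> simp [u₃, hwp]
  let g₁ : SU (4 + m) F q := suDiag q (ap m u₁) (ap_prod hu₁d) (ap_all (fun x => x ^ (q + 1) = 1) hu₁q (one_pow _))
  let g₃ : SU (4 + m) F q := suDiag q (ap m u₃) (ap_prod hu₃d) (ap_all (fun x => x ^ (q + 1) = 1) hu₃q (one_pow _))
  have hel₁ : El p (pr (4 + m) F q g₁) := el_dg hF (by omega) (i := Fin.castAdd m 0) (j := Fin.castAdd m 2)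
    (by rw [ap_left, ap_left]; exact hw1) (ap_all (fun x => x ^ p = 1) hu₁p (one_pow _))
  have hel₃ : El p (pr (4 + m) F q g₃) := el_dg hF (by omega) (i := Fin.castAdd m 0) (j := Fin.castAdd m 2)
    (by rw [ap_left, ap_left]; exact hww) (ap_all (fun x => x ^ p = 1) hu₃p (one_pow _))
  have hwt₁ : wt p (pr (4 + m) F q g₁) = 2 := wt_dg hp2 hF (by omega) hw1 hwp hwq (i := Fin.castAdd m 2)
    (j := Fin.castAdd m 3) (by simp [Fin.ext_iff]) (by rw [ap_left, ap_left]; rfl)
  have hwt₃ : wt p (pr (4 + m) F q g₃) = 2 := wt_dg hp2 hF (by omega) hw1 hwp hwq (i := Fin.castAdd m 0)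
    (j := Fin.castAdd m 1) (by simp [Fin.ext_iff]) (by rw [ap_left, ap_left]; rfl)
  have hc₁ : cnt (ap m u₁) = 6 + 4 * m + m * m := by
    rw [cnt_ap]
    simp only [u₁, Fin.sum_univ_four, Matrix.cons_val_zero, Matrix.cons_val_one, Matrix.cons_val, if_true, if_false,
      hw1, hw1', hww, hww.symm, Ne.symm hw1, Ne.symm hw1']
    ring
  have hc₃ : cnt (ap m u₃) = 8 + m * m := by
    rw [cnt_ap]
    simp only [u₃, Fin.sum_univ_four, Matrix.cons_val_zero, Matrix.cons_val_one, Matrix.cons_val, if_true, if_false,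
      hw1, hw1', hww, hww.symm]
    ring
  -- the third element
  obtain ⟨g, hel, hwt, hne₁, hne₁', hne₃, hne₃'⟩ : ∃ g : SU (4 + m) F q, El p (pr (4 + m) F q g) ∧
      1 ≤ wt p (pr (4 + m) F q g) ∧
      (∀ σ : PSU (4 + m) F q ≃* PSU (4 + m) F q, σ (pr (4 + m) F q g) ≠ pr (4 + m) F q g₁) ∧
      (∀ σ : PSU (4 + m) F q ≃* PSU (4 + m) F q, σ (pr (4 + m) F q g₁) ≠ pr (4 + m) F q g) ∧
      (∀ σ : PSU (4 + m) F q ≃* PSU (4 + m) F q, σ (pr (4 + m) F q g) ≠ pr (4 + m) F q g₃) ∧
      (∀ σ : PSU (4 + m) F q ≃* PSU (4 + m) F q, σ (pr (4 + m) F q g₃) ≠ pr (4 + m) F q g) := by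
    rcases Nat.lt_or_ge p 5 with h5 | h5
    · -- `p = 3`
      have hp3' : p = 3 := by
        have : p ≠ 4 := by
          rintro rfl
          exact absurd hp.out (by norm_num)
        omega
      let u₂ : Fin 4 → F := ![w, w, w, 1]
      have hw3 : w * (w * w) = 1 := by rw [← pow_two, ← pow_succ', ← hwp, hp3']
      have hu₂d : ∏ i, u₂ i = 1 := by simp [u₂, Fin.prod_univ_four, mul_assoc, hw3]
      have hu₂q : ∀ i, u₂ i ^ (q + 1) = 1 := by
        intro i; fin_cases i <;> simp [u₂, hwq]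
      have hu₂p : ∀ i, u₂ i ^ p = 1 := by
        intro i; fin_cases i <;> simp [u₂, hwp]
      have hc₂ : cnt (ap m u₂) = 10 + 2 * m + m * m := by
        rw [cnt_ap]
        simp only [u₂, Fin.sum_univ_four, Matrix.cons_val_zero, Matrix.cons_val_one, Matrix.cons_val, if_true,
          if_false, hw1, Ne.symm hw1]
        ring
      have hb : ∀ i, ap m u₂ i = 1 ∨ ap m u₂ i = w := ap_all (fun x => x = 1 ∨ x = w)
        (by intro i; fin_cases i <;> simp [u₂]) (Or.inl rfl)
      refine ⟨suDiag q (ap m u₂) (ap_prod hu₂d) (ap_all (fun x => x ^ (q + 1) = 1) hu₂q (one_pow _)),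
        el_dg hF (by omega) (i := Fin.castAdd m 0) (j := Fin.castAdd m 3) (by rw [ap_left, ap_left]; exact hw1)
          (ap_all (fun x => x ^ p = 1) hu₂p (one_pow _)), one_le_wt _, ?_, ?_, ?_, ?_⟩
      · intro σ h
        obtain ⟨S⟩ := exists_semi hF (by omega) h32 σ h
        exact no_semi hw1 hww.symm S hb (i := Fin.castAdd m 0) (j := Fin.castAdd m 1) (k := Fin.castAdd m 2)
          (by rw [ap_left]; rfl) (by rw [ap_left]; rfl) (by rw [ap_left]; rfl)
      · intro σ h
        obtain ⟨S⟩ := exists_semi hF (by omega) h32 σ.symm (g' := g₁) (by rw [← h, σ.symm_apply_apply])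
        exact no_semi hw1 hww.symm S hb (i := Fin.castAdd m 0) (j := Fin.castAdd m 1) (k := Fin.castAdd m 2)
          (by rw [ap_left]; rfl) (by rw [ap_left]; rfl) (by rw [ap_left]; rfl)
      · intro σ h
        have := cnt_eq hF (by omega) h32 σ h
        omega
      · intro σ h
        have := cnt_eq hF (by omega) h32 σ h
        omega
    · -- `p ≥ 5`
      let u₄ : Fin 4 → F := ![w, w⁻¹, w ^ 2, (w ^ 2)⁻¹]
      have hw3 : w ^ 3 ≠ 1 := hpow 3 (by norm_num) (by omega)
      have hw4 : w ^ 4 ≠ 1 := hpow 4 (by norm_num) (by omega)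
      have hw20 : w ^ 2 ≠ 0 := pow_ne_zero _ hw0
      have hu₄d : ∏ i, u₄ i = 1 := by
        simp [u₄, Fin.prod_univ_four, mul_inv_cancel₀ hw0, mul_inv_cancel₀ hw20]
      have hw2q : (w ^ 2) ^ (q + 1) = 1 := by rw [← pow_mul, mul_comm, pow_mul, hwq, one_pow]
      have hw2p : (w ^ 2) ^ p = 1 := by rw [← pow_mul, mul_comm, pow_mul, hwp, one_pow]
      have hu₄q : ∀ i, u₄ i ^ (q + 1) = 1 := by
        intro i
        fin_cases i
        · exact hwq
        · exact hinvq
        · exact hw2q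
        · show ((w ^ 2)⁻¹) ^ (q + 1) = 1
          rw [inv_pow, hw2q, inv_one]
      have hu₄p : ∀ i, u₄ i ^ p = 1 := by
        intro i
        fin_cases i
        · exact hwp
        · exact hinvp
        · exact hw2p
        · show ((w ^ 2)⁻¹) ^ p = 1
          rw [inv_pow, hw2p, inv_one]
      have n1 : w ≠ w ^ 2 := by
        intro h
        apply hw1
        have h1 : w * 1 = w * w := by rw [mul_one, ← pow_two]; exact h
        exact (mul_left_cancel₀ hw0 h1).symm
      have n2 : w ≠ (w ^ 2)⁻¹ := by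
        intro h
        apply hw3
        rw [pow_succ']
        nth_rw 1 [h]
        exact inv_mul_cancel₀ hw20
      have n3 : w⁻¹ ≠ w ^ 2 := by
        intro h
        apply n2
        rw [← h, inv_inv]
      have n4 : w⁻¹ ≠ (w ^ 2)⁻¹ := fun h => n1 (inv_injective h)
      have n5 : w ^ 2 ≠ (w ^ 2)⁻¹ := by
        intro h
        apply hw4
        have h1 : w ^ 4 = w ^ 2 * w ^ 2 := by ring
        rw [h1]
        nth_rw 2 [h]
        exact mul_inv_cancel₀ hw20
      have n6 : (w ^ 2)⁻¹ ≠ 1 := fun h => hw2 (inv_eq_one.1 h)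
      have hc₄ : cnt (ap m u₄) = 4 + m * m := by
        rw [cnt_ap]
        simp only [u₄, Fin.sum_univ_four, Matrix.cons_val_zero, Matrix.cons_val_one, Matrix.cons_val, if_true,
          if_false, hw1, hw1', hww, Ne.symm hww, n1, n1.symm, n2, n2.symm, n3, n3.symm, n4, n4.symm, n5, n5.symm, n6,
          hw2]
        ring
      refine ⟨suDiag q (ap m u₄) (ap_prod hu₄d) (ap_all (fun x => x ^ (q + 1) = 1) hu₄q (one_pow _)),
        el_dg hF (by omega) (i := Fin.castAdd m 0) (j := Fin.castAdd m 1) (by rw [ap_left, ap_left]; exact hww)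
          (ap_all (fun x => x ^ p = 1) hu₄p (one_pow _)), one_le_wt _, ?_, ?_, ?_, ?_⟩
      · intro σ h
        have := cnt_eq hF (by omega) h32 σ h
        omega
      · intro σ h
        have := cnt_eq hF (by omega) h32 σ h
        omega
      · intro σ h
        have := cnt_eq hF (by omega) h32 σ h
        omega
      · intro σ h
        have := cnt_eq hF (by omega) h32 σ h
        omega
  have hne₁₃ : ∀ σ : PSU (4 + m) F q ≃* PSU (4 + m) F q, σ (pr (4 + m) F q g₁) ≠ pr (4 + m) F q g₃ := by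
    intro σ h
    have := cnt_eq hF (by omega) h32 σ h
    omega
  have hne₃₁ : ∀ σ : PSU (4 + m) F q ≃* PSU (4 + m) F q, σ (pr (4 + m) F q g₃) ≠ pr (4 + m) F q g₁ := by
    intro σ h
    have := cnt_eq hF (by omega) h32 σ h
    omega
  have e13 : pr (4 + m) F q g₁ ≠ pr (4 + m) F q g₃ := hne₁₃ (MulEquiv.refl _)
  have e1g : pr (4 + m) F q g₁ ≠ pr (4 + m) F q g := hne₁' (MulEquiv.refl _)
  have e3g : pr (4 + m) F q g₃ ≠ pr (4 + m) F q g := hne₃' (MulEquiv.refl _)
  refine KRow.of_wt hX {pr (4 + m) F q g₁, pr (4 + m) F q g₃, pr (4 + m) F q g} ?_ ?_ ?_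
  · intro x hx
    simp only [Finset.mem_insert, Finset.mem_singleton] at hx
    rcases hx with rfl | rfl | rfl
    · exact hel₁
    · exact hel₃
    · exact hel
  · intro x hx y hy σ hσ
    simp only [Finset.mem_insert, Finset.mem_singleton] at hx hy
    rcases hx with rfl | rfl | rfl <;> rcases hy with rfl | rfl | rfl <;>
      first
        | rfl
        | exact absurd hσ (hne₁₃ σ)
        | exact absurd hσ (hne₃₁ σ)
        | exact absurd hσ (hne₁ σ)
        | exact absurd hσ (hne₁' σ)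
        | exact absurd hσ (hne₃ σ)
        | exact absurd hσ (hne₃' σ)
  · rw [Finset.sum_insert (by simp [e13, e1g]), Finset.sum_pair e3g, hwt₁, hwt₃]
    omega

end row

end Cfsg.Agent.H166.K6
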