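import Cfsg.Agent.H166.K6.PsuBlk
import Cfsg.Agent.H166.K6.WtCyc

/-!
# S4876: the rows `PSU_n(q)`, `d = ord_p(-q) ≥ 2` (helper166)
-/

set_option autoImplicit false
set_option linter.unusedSectionVars false

open Cfsg Module Subgroup Cfsg.Agent.LieClassical.HermBasic Cfsg.Agent.LieClassical.HermSiegel Cfsg.Agent.H724.KB
  Cfsg.Agent.H61.K6

namespace Cfsg.Agent.H166.K6

universe u

section elts

variable {F : Type} [Field F] [Fintype F] {q : ℕ} {K : Type} [Field K] [Algebra F K] [Fintype K] {d : ℕ} [NeZero d]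
  {l : ZMod d → Kˣ} {p : ℕ} [hp : Fact p.Prime] {s r n : ℕ}

/-- the torus element of order `p` -/
def TT (h : Reg F q l) : W F K d ≃ₗ[F] W F K d := torE (F := F) h.hF l h.tor

theorem TT_pow (h : Reg F q l) (hl : ∀ j, orderOf (l j) = p) : TT h ^ p = 1 := by
  rw [TT, torE_pow, torE_eq_one]
  funext j
  rw [Pi.pow_apply, ← hl j, pow_orderOf_eq_one]
  rfl

theorem TT_fix (h : Reg F q l) (hl : ∀ j, orderOf (l j) = p) {v : W F K d} (hv : TT h v = v) : v = 0 := by
  have hl1 : ∀ j, (l j : K) ≠ 1 := by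
    intro j h1
    have h2 : l j = 1 := Units.ext h1
    have h3 := hl j
    rw [h2, orderOf_one] at h3
    exact hp.out.one_lt.ne h3
  apply Subtype.ext
  funext j
  have h1 : (l j : K) * v.1 j = v.1 j := congrArg (fun w : W F K d => w.1 j) hv
  have h2 : ((l j : K) - 1) * v.1 j = 0 := by rw [sub_mul, h1, one_mul, sub_self]
  exact (mul_eq_zero.1 h2).resolve_left (sub_ne_zero.2 (hl1 j))

theorem one'_ne_zero : (one' : W F K d) ≠ 0 := by
  intro h
  have h3 := congrArg (fun w : W F K d => w.1 0) h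
  exact one_ne_zero h3

theorem TT_ne_one (h : Reg F q l) (hl : ∀ j, orderOf (l j) = p) : TT h ≠ 1 := by
  intro h1
  exact one'_ne_zero (TT_fix h hl (v := one') (by rw [h1]; rfl))

theorem TT_iso (h : Reg F q l) : TT h ∈ IsoG (fW h.hF K d) := torE_iso h.hF l h.tor

/-- block elements of order prime to `q + 1` in `SU` -/
def mk (h : Reg F q l) (N : ℕ) (hN : N.Coprime (q + 1)) (a : Fin s → (W F K d ≃ₗ[F] W F K d)) (b : W F K d ≃ₗ[F] W F K d)
    (ha : ∀ i, a i ∈ IsoG (fW h.hF K d)) (hb : b ∈ IsoG (fW h.hF K d)) (haN : ∀ i, a i ^ N = 1) (hbN : b ^ N = 1) :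
    ↥(SUs (fV h.hF K d s r)) :=
  ⟨blk a b, by
    have := h.finite
    refine mem_SUs_of_pow h.hF (fV_symm h.hF s r) (fV_nd h s r) hN (blk_iso h.hF ha hb) ?_
    rw [blk_pow, hbN]
    have : (fun i => a i ^ N) = fun _ => 1 := funext haN
    rw [this]
    rfl⟩

theorem mk_pow (h : Reg F q l) (N : ℕ) (hN : N.Coprime (q + 1)) (a : Fin s → (W F K d ≃ₗ[F] W F K d))
    (b : W F K d ≃ₗ[F] W F K d) (ha : ∀ i, a i ∈ IsoG (fW h.hF K d)) (hb : b ∈ IsoG (fW h.hF K d))
    (haN : ∀ i, a i ^ N = 1) (hbN : b ^ N = 1) : (mk (r := r) h N hN a b ha hb haN hbN) ^ N = 1 := by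
  apply Subtype.ext
  change (blk a b) ^ N = 1
  rw [blk_pow, hbN]
  have : (fun i => a i ^ N) = fun _ => 1 := funext haN
  rw [this]
  rfl

/-- weight 2 for elements acting trivially on the last block -/
theorem wt_last (h : Reg F q l) (hl : ∀ j, orderOf (l j) = p) (hK : finrank F K = d) (hd : OrdM p q d)
    (hq : p.Coprime (q + 1)) (hd2 : 2 ≤ d) (P : PhiD h.hF (fV h.hF K d s r) n) {x : ↥(SUs (fV h.hF K d s r))}
    {a : Fin s → (W F K d ≃ₗ[F] W F K d)} (hx : x.1 = blk a 1) : wt p (P.φ x) = 2 := by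
  have : Finite (PSU n F q) := by
    have : Finite (SU n F q) := Finite.of_injective (mat : SU n F q → _) mat_injective
    infer_instance
  obtain ⟨te, hti, htd, hte⟩ := exists_te h hK
  have hTT := hte l h.tor p hp.out.pos (TT_pow h hl)
  have := h.finite
  let y : ↥(SUs (fV h.hF K d s r)) := mk h p hq (fun _ => 1) (TT h) (fun _ => one_mem _) (TT_iso h)
    (fun _ => one_pow _) (TT_pow h hl)
  have hyp : y ^ p = 1 := mk_pow _ _ _ _ _ _ _ _ _
  let c : ↥(SUs (fV h.hF K d s r)) := ⟨blk (fun _ => 1) te, mem_SUs.2 ⟨blk_iso h.hF (fun _ => one_mem _) hti, by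
    rw [det_blk_last, htd]⟩⟩
  have hy1 : y ≠ 1 := by
    intro h1
    apply TT_ne_one h hl
    refine LinearEquiv.ext fun v => ?_
    have h2 := congrArg (fun g : ↥(SUs (fV h.hF K d s r)) => (g.1 (0, (v, 0))).2.1) h1
    exact h2
  have hyx : y * x = x * y := by
    apply Subtype.ext
    change blk (fun _ => 1) (TT h) * x.1 = x.1 * blk (fun _ => 1) (TT h)
    rw [hx, blk_mul, blk_mul]
    simp only [one_mul, mul_one]
  have hcx : c * x = x * c := by
    apply Subtype.ext
    change blk (fun _ => 1) te * x.1 = x.1 * blk (fun _ => 1) te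
    rw [hx, blk_mul, blk_mul]
    simp only [one_mul, mul_one]
  have hcy : c * y = y ^ ((p - 1) * q) * c := by
    apply Subtype.ext
    change blk (fun _ => 1) te * blk (fun _ => 1) (TT h) = (blk (fun _ => 1) (TT h)) ^ ((p - 1) * q) * blk (fun _ => 1) te
    rw [blk_pow, blk_mul, blk_mul]
    simp only [one_mul, one_pow]
    rw [TT]
    rw [hTT]
  have hφ1 : P.φ y ≠ 1 := fun h1 => hy1 (P.eq_one hq hyp h1)
  refine wt_two_of_fus (y := P.φ y) (c := P.φ c) (by rw [← map_mul, ← map_mul, hyx]) (by rw [← map_mul, ← map_mul, hcx])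
    hφ1 (k := 1) ?_ (j := (p - 1) * q) ?_ ?_
  · rw [pow_one]
    exact orderOf_eq_prime (by rw [← map_pow, hyp, map_one]) hφ1
  · intro h1
    have h2 := orderOf_neg hd hp.out.pos (dvd_refl p)
    rw [h1, orderOf_one] at h2
    omega
  · rw [mul_inv_eq_iff_eq_mul, ← map_mul, hcy, map_mul, map_pow]

/-- weight 2 for elements acting in the same way on the last block and another one -/
theorem wt_pair (h : Reg F q l) (hl : ∀ j, orderOf (l j) = p) (hK : finrank F K = d) (hp2 : p ≠ 2)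
    (hq : p.Coprime (q + 1)) (P : PhiD h.hF (fV h.hF K d s r) n) {x : ↥(SUs (fV h.hF K d s r))}
    {a : Fin s → (W F K d ≃ₗ[F] W F K d)} (i₀ : Fin s) {m : ZMod d → Kˣ} {hm : IsTor q m}
    (ha : a i₀ = torE (F := F) h.hF m hm) (hx : x.1 = blk a (torE (F := F) h.hF m hm)) : wt p (P.φ x) = 2 := by
  classical
  have : Finite (PSU n F q) := by
    have : Finite (SU n F q) := Finite.of_injective (mat : SU n F q → _) mat_injective
    infer_instance
  have := h.finite
  have hinv : (TT h)⁻¹ ^ p = 1 := by rw [inv_pow, TT_pow h hl, inv_one]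
  let y : ↥(SUs (fV h.hF K d s r)) := mk h p hq (fun i => if i = i₀ then TT h else 1) (TT h)⁻¹
    (fun i => by split_ifs; exacts [TT_iso h, one_mem _]) (inv_mem (TT_iso h))
    (fun i => by split_ifs; exacts [TT_pow h hl, one_pow _]) hinv
  have hyp : y ^ p = 1 := mk_pow _ _ _ _ _ _ _ _ _
  -- the exchange, of determinant one
  obtain ⟨m1, hm1, hdm⟩ : ∃ (m1 : ZMod d → Kˣ) (hm1 : IsTor q m1),
      LinearEquiv.det (torE h.hF m1 hm1 : W F K d ≃ₗ[F] W F K d) =
        (LinearEquiv.det (sw i₀ : _ ≃ₗ[F] ((Fin s → W F K d) × (W F K d × (Fin r → F)))))⁻¹ := by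
    refine exists_det h hK ?_
    obtain ⟨b, hb⟩ := exists_basis h.hF rfl (fV_symm h.hF s r) (fV_nd h s r)
    rw [inv_pow, det_pow h.hF b hb (sw_iso h.hF i₀), inv_one]
  let c : ↥(SUs (fV h.hF K d s r)) := ⟨blk (fun _ => 1) (torE h.hF m1 hm1) * sw i₀, mem_SUs.2
    ⟨mul_mem (blk_iso h.hF (fun _ => one_mem _) (torE_iso h.hF m1 hm1)) (sw_iso h.hF i₀), by
      rw [map_mul, det_blk_last, hdm, inv_mul_cancel]⟩⟩
  have hy1 : y ≠ 1 := by
    intro h1
    apply TT_ne_one h hl
    refine LinearEquiv.ext fun v => ?_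
    have h2 := congrArg (fun g : ↥(SUs (fV h.hF K d s r)) => (g.1 (fun _ => v, (0, 0))).1 i₀) h1
    have h3 : (if i₀ = i₀ then TT h else 1 : W F K d ≃ₗ[F] W F K d) v = v := h2
    rwa [if_pos rfl] at h3
  have hTm : ∀ (m2 : ZMod d → Kˣ) (hm2 : IsTor q m2), TT h * torE (F := F) h.hF m2 hm2 = torE (F := F) h.hF m2 hm2 * TT h :=
    fun m2 hm2 => torE_comm h.hF l m2 h.tor hm2
  have hTm' : ∀ (m2 : ZMod d → Kˣ) (hm2 : IsTor q m2),
      (TT h)⁻¹ * torE (F := F) h.hF m2 hm2 = torE (F := F) h.hF m2 hm2 * (TT h)⁻¹ := by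
    intro m2 hm2
    rw [inv_mul_eq_iff_eq_mul, ← mul_assoc, hTm, mul_assoc, mul_inv_cancel, mul_one]
  have hyx : y * x = x * y := by
    apply Subtype.ext
    change blk (fun i => if i = i₀ then TT h else 1) (TT h)⁻¹ * x.1 = x.1 * blk (fun i => if i = i₀ then TT h else 1) (TT h)⁻¹
    rw [hx, blk_mul, blk_mul, hTm']
    congr 1
    funext i
    by_cases hi : i = i₀
    · rw [if_pos hi, hi, ha, hTm]
    · rw [if_neg hi, one_mul, mul_one]
  have hcx : c * x = x * c := by
    apply Subtype.ext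
    change blk (fun _ => 1) (torE h.hF m1 hm1) * sw i₀ * x.1 = x.1 * (blk (fun _ => 1) (torE h.hF m1 hm1) * sw i₀)
    rw [hx, mul_assoc, sw_blk i₀ a a _ _ ha ha (fun _ _ => rfl), ← mul_assoc, ← mul_assoc, blk_mul, blk_mul, torE_comm]
    simp only [one_mul, mul_one]
  have hcy : c * y = y⁻¹ * c := by
    have hyi : y⁻¹ = mk h p hq (fun i => if i = i₀ then (TT h)⁻¹ else 1) (TT h)
        (fun i => by split_ifs; exacts [inv_mem (TT_iso h), one_mem _]) (TT_iso h)
        (fun i => by split_ifs; exacts [hinv, one_pow _]) (TT_pow h hl) := by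
      apply inv_eq_of_mul_eq_one_left
      apply Subtype.ext
      change blk (fun i => if i = i₀ then (TT h)⁻¹ else 1) (TT h) * blk (fun i => if i = i₀ then TT h else 1) (TT h)⁻¹ = 1
      rw [blk_mul, mul_inv_cancel]
      have : (fun i => (if i = i₀ then (TT h)⁻¹ else 1) * (if i = i₀ then TT h else 1) : Fin s → _) = fun _ => 1 := by
        funext i
        by_cases hi : i = i₀
        · rw [if_pos hi, if_pos hi, inv_mul_cancel]
        · rw [if_neg hi, if_neg hi, mul_one]
      rw [this]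
      rfl
    rw [hyi]
    apply Subtype.ext
    change blk (fun _ => 1) (torE h.hF m1 hm1) * sw i₀ * blk (fun i => if i = i₀ then TT h else 1) (TT h)⁻¹ =
      blk (fun i => if i = i₀ then (TT h)⁻¹ else 1) (TT h) * (blk (fun _ => 1) (torE h.hF m1 hm1) * sw i₀)
    rw [mul_assoc, sw_blk i₀ _ (fun i => if i = i₀ then (TT h)⁻¹ else 1) _ (TT h) (by rw [if_pos rfl]) (by rw [if_pos rfl])
      (fun i hi => by rw [if_neg hi, if_neg hi]), ← mul_assoc, ← mul_assoc, blk_mul, blk_mul, hTm]
    simp only [one_mul, mul_one]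
  have hφ1 : P.φ y ≠ 1 := fun h1 => hy1 (P.eq_one hq hyp h1)
  exact wt_two_of_inv hp2 (y := P.φ y) (c := P.φ c) (by rw [← map_mul, ← map_mul, hyx])
    (by rw [← map_mul, ← map_mul, hcx]) hφ1 (by rw [← map_pow, hyp, map_one])
    (by rw [← map_mul, hcy, map_mul, map_inv])

end elts

/-- a row from a list of elements -/
theorem row_of_list {p : ℕ} {X : Type} [Group X] [Finite X] (hX : ¬ HasNormalPComplement p X) {k : ℕ} (x : Fin k → X)
    (w : Fin k → ℕ) (hel : ∀ i, El p (x i)) (hne : ∀ i j, i < j → ∀ σ : X ≃* X, σ (x i) ≠ x j)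
    (hw : ∀ i, WtGe.{u, 0} p (x i) (w i)) (hn : 5 ≤ ∑ i, w i) : KRow.{u, 0} p X := by
  classical
  have hne' : ∀ i j, i ≠ j → ∀ σ : X ≃* X, σ (x i) ≠ x j := by
    intro i j hij σ
    rcases lt_or_gt_of_ne hij with h | h
    · exact hne i j h σ
    · intro h1
      exact hne j i h σ.symm (by rw [← h1, σ.symm_apply_apply])
  have hinj : Function.Injective x := by
    intro i j hij
    by_contra h
    exact hne' i j h (MulEquiv.refl _) hij
  let w' : X → ℕ := fun y => if h : ∃ i, x i = y then w h.choose else 0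
  have hw' : ∀ i, w' (x i) = w i := by
    intro i
    have h : ∃ i', x i' = x i := ⟨i, rfl⟩
    have h1 : w' (x i) = w h.choose := dif_pos h
    rw [h1, hinj h.choose_spec]
  refine KRow.of_weights hX (Finset.univ.image x) ?_ ?_ w' ?_ ?_
  · intro y hy
    obtain ⟨i, -, rfl⟩ := Finset.mem_image.1 hy
    exact hel i
  · intro y hy z hz σ hσ
    obtain ⟨i, -, rfl⟩ := Finset.mem_image.1 hy
    obtain ⟨j, -, rfl⟩ := Finset.mem_image.1 hz
    by_contra h
    exact hne' i j (fun h1 => h (by rw [h1])) σ hσ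
  · intro y hy
    obtain ⟨i, -, rfl⟩ := Finset.mem_image.1 hy
    rw [hw']
    exact hw i
  · rw [Finset.sum_image fun a _ b _ h => hinj h]
    simp only [hw']
    exact hn

section rows

variable {F : Type} [Field F] [Fintype F] {q : ℕ} {K : Type} [Field K] [Algebra F K] [Fintype K] {d : ℕ} [NeZero d]
  {l : ZMod d → Kˣ} {p : ℕ} [hp : Fact p.Prime] {s r n : ℕ}

theorem finite_V (h : Reg F q l) : Finite ((Fin s → W F K d) × (W F K d × (Fin r → F))) := by
  have := finite_W h
  infer_instance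

/-- elements with entries `1` and `T` -/
def EE (h : Reg F q l) (hl : ∀ j, orderOf (l j) = p) (hq : p.Coprime (q + 1)) (f : Fin s → Bool) (g : Bool) :
    ↥(SUs (fV h.hF K d s r)) :=
  mk h p hq (fun i => if f i then TT h else 1) (if g then TT h else 1)
    (fun i => by split_ifs; exacts [TT_iso h, one_mem _]) (by split_ifs; exacts [TT_iso h, one_mem _])
    (fun i => by split_ifs; exacts [TT_pow h hl, one_pow _]) (by split_ifs; exacts [TT_pow h hl, one_pow _])

theorem EE_pow (h : Reg F q l) (hl : ∀ j, orderOf (l j) = p) (hq : p.Coprime (q + 1)) (f : Fin s → Bool) (g : Bool) :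
    (EE (r := r) h hl hq f g) ^ p = 1 := mk_pow _ _ _ _ _ _ _ _ _

theorem EE_fix (h : Reg F q l) (hl : ∀ j, orderOf (l j) = p) (hq : p.Coprime (q + 1)) (f : Fin s → Bool) (g : Bool)
    (v : (Fin s → W F K d) × (W F K d × (Fin r → F))) :
    (EE (r := r) h hl hq f g).1 v = v ↔ (∀ i, f i → v.1 i = 0) ∧ (g → v.2.1 = 0) := by
  have h1 : (EE (r := r) h hl hq f g).1 v = (fun i => (if f i then TT h else 1 : W F K d ≃ₗ[F] W F K d) (v.1 i),
    ((if g then TT h else 1 : W F K d ≃ₗ[F] W F K d) v.2.1, v.2.2)) := rfl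
  rw [h1]
  constructor
  · intro h2
    constructor
    · intro i hi
      have h3 := congrFun (congrArg (fun w : (Fin s → W F K d) × (W F K d × (Fin r → F)) => w.1) h2) i
      have h4 : (if f i then TT h else 1 : W F K d ≃ₗ[F] W F K d) (v.1 i) = v.1 i := h3
      rw [if_pos hi] at h4
      exact TT_fix h hl h4
    · intro hg
      have h3 := congrArg (fun w : (Fin s → W F K d) × (W F K d × (Fin r → F)) => w.2.1) h2
      have h4 : (if g then TT h else 1 : W F K d ≃ₗ[F] W F K d) v.2.1 = v.2.1 := h3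
      rw [if_pos hg] at h4
      exact TT_fix h hl h4
  · rintro ⟨h2, h3⟩
    refine Prod.ext (funext fun i => ?_) (Prod.ext ?_ rfl)
    · change (if f i then TT h else 1 : W F K d ≃ₗ[F] W F K d) (v.1 i) = v.1 i
      by_cases hi : f i
      · rw [h2 i hi, map_zero]
      · rw [if_neg hi]
        rfl
    · change (if g then TT h else 1 : W F K d ≃ₗ[F] W F K d) v.2.1 = v.2.1
      by_cases hg : g
      · rw [h3 hg, map_zero]
      · rw [if_neg hg]
        rfl

theorem EE_el (h : Reg F q l) (hl : ∀ j, orderOf (l j) = p) (hq : p.Coprime (q + 1)) (f : Fin s → Bool) (g : Bool)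
    (hfg : (∃ i, f i) ∨ g) (P : PhiD h.hF (fV h.hF K d s r) n) : El p (P.φ (EE h hl hq f g)) := by
  refine P.el hq (k := 1) (by rw [pow_one]; exact EE_pow _ _ _ _ _) fun h1 => ?_
  have h2 : ∀ v : (Fin s → W F K d) × (W F K d × (Fin r → F)), (∀ i, f i → v.1 i = 0) ∧ (g → v.2.1 = 0) := fun v =>
    (EE_fix h hl hq f g v).1 (by rw [h1]; rfl)
  rcases hfg with ⟨i, hi⟩ | hg
  · exact one'_ne_zero ((h2 (fun _ => one', (0, 0))).1 i hi)
  · exact one'_ne_zero ((h2 (0, (one', 0))).2 hg)

/-- elements of different supports are not conjugate -/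
theorem EE_ne (h : Reg F q l) (hl : ∀ j, orderOf (l j) = p) (hq : p.Coprime (q + 1)) {f f' : Fin s → Bool} {g g' : Bool}
    (hf : ∀ i, f i → f' i) (hg : g → g') (hne : (∃ i, f' i ∧ ¬ f i) ∨ (g' ∧ ¬ g)) (P : PhiD h.hF (fV h.hF K d s r) n)
    (σ : PSU n F q ≃* PSU n F q) : σ (P.φ (EE h hl hq f g)) ≠ P.φ (EE h hl hq f' g') := by
  have := finite_V (s := s) (r := r) h
  refine P.ne_of_fix hq (EE_pow _ _ _ _ _) (EE_pow _ _ _ _ _) (ne_of_gt ?_) σ
  refine Set.ncard_lt_ncard ?_ (Set.toFinite _)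
  rw [Set.ssubset_iff_subset_ne]
  constructor
  · intro v hv
    have h1 := (EE_fix h hl hq f' g' v).1 hv
    exact (EE_fix h hl hq f g v).2 ⟨fun i hi => h1.1 i (hf i hi), fun hi => h1.2 (hg hi)⟩
  · intro h1
    classical
    rcases hne with ⟨i, hi, hi'⟩ | ⟨hi, hi'⟩
    · have h2 : ((Pi.single i one' : Fin s → W F K d), ((0 : W F K d), (0 : Fin r → F))) ∈
          {v | (EE (r := r) h hl hq f g).1 v = v} := by
        refine (EE_fix h hl hq f g _).2 ⟨fun j hj => ?_, fun _ => rfl⟩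
        have hji : j ≠ i := fun hji => hi' (hji ▸ hj)
        exact Pi.single_eq_of_ne hji _
      rw [← h1] at h2
      have h3 := ((EE_fix h hl hq f' g' _).1 h2).1 i hi
      have h4 : (Pi.single i one' : Fin s → W F K d) i = 0 := h3
      rw [Pi.single_eq_same] at h4
      exact one'_ne_zero h4
    · have h2 : ((0 : Fin s → W F K d), ((one' : W F K d), (0 : Fin r → F))) ∈
          {v | (EE (r := r) h hl hq f g).1 v = v} := by
        refine (EE_fix h hl hq f g _).2 ⟨fun j hj => rfl, fun h3 => absurd h3 hi'⟩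
      rw [← h1] at h2
      exact one'_ne_zero (((EE_fix h hl hq f' g' _).1 h2).2 hi)

/-- **`n ≥ 3 d`** -/
theorem row_block_three (h : Reg F q l) (hl : ∀ j, orderOf (l j) = p) (hK : finrank F K = d) (hd : OrdM p q d)
    (hp2 : p ≠ 2) (hq : p.Coprime (q + 1)) (hd2 : 2 ≤ d) (P : PhiD h.hF (fV h.hF K d s r) n) (hs : 2 ≤ s)
    (hX : ¬ HasNormalPComplement p (PSU n F q)) : KRow.{u, 0} p (PSU n F q) := by
  classical
  have : Finite (PSU n F q) := by
    have : Finite (SU n F q) := Finite.of_injective (mat : SU n F q → _) mat_injective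
    infer_instance
  let i₀ : Fin s := ⟨0, by omega⟩
  let i₁ : Fin s := ⟨1, by omega⟩
  have h10 : i₁ ≠ i₀ := fun h => by simpa [i₀, i₁] using congrArg Fin.val h
  let f : Fin 3 → Fin s → Bool := ![fun i => i = i₀, fun i => i = i₀, fun _ => true]
  let g : Fin 3 → Bool := ![false, true, true]
  refine row_of_list hX (fun i => P.φ (EE h hl hq (f i) (g i))) (fun _ => 2) ?_ ?_ ?_ (by simp)
  · intro i
    refine EE_el h hl hq _ _ (Or.inl ⟨i₀, ?_⟩) P
    fin_cases i <;> simp [f]
  · intro i j hij σ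
    refine EE_ne h hl hq ?_ ?_ ?_ P σ
    · intro k
      fin_cases i <;> fin_cases j <;> simp [f] at hij ⊢
    · fin_cases i <;> fin_cases j <;> simp [g] at hij ⊢
    · fin_cases i <;> fin_cases j <;> simp [f, g] at hij ⊢
      exact ⟨i₁, h10⟩
  · intro i
    have hw : wt p (P.φ (EE h hl hq (f i) (g i))) = 2 := by
      fin_cases i
      · exact wt_last h hl hK hd hq hd2 P (x := EE h hl hq (f 0) (g 0)) (a := fun i => if i = i₀ then TT h else 1) (by
          change blk (fun i => if decide (i = i₀) then TT h else 1) (if false then TT h else 1) = _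
          simp)
      · refine wt_pair h hl hK hp2 hq P (x := EE h hl hq (f 1) (g 1)) (a := fun i => if i = i₀ then TT h else 1) i₀
          (m := l) (hm := h.tor) (by rw [if_pos rfl]; rfl) ?_
        change blk (fun i => if decide (i = i₀) then TT h else 1) (if true then TT h else 1) = _
        simp [TT]
      · refine wt_pair h hl hK hp2 hq P (x := EE h hl hq (f 2) (g 2)) (a := fun i => TT h) i₀
          (m := l) (hm := h.tor) rfl ?_
        change blk (fun i => if true then TT h else 1) (if true then TT h else 1) = _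
        simp [TT]
    have := wtGe_wt.{u, 0} (p := p) (P.φ (EE h hl hq (f i) (g i)))
    rw [hw] at this
    exact this

end rows

end Cfsg.Agent.H166.K6
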