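import Cfsg.Agent.H166.K6.PsuPhi

/-!
# Block elements of the unitary group (helper166)
-/

set_option autoImplicit false
set_option linter.unusedSectionVars false

open Cfsg Module Subgroup Cfsg.Agent.LieClassical.HermBasic Cfsg.Agent.LieClassical.HermSiegel Cfsg.Agent.H724.KB
  Cfsg.Agent.H61.K6

namespace Cfsg.Agent.H166.K6

section blk

variable {F : Type} [Field F] [Fintype F] {q : ℕ} {K : Type} [Field K] [Algebra F K] {d : ℕ} [NeZero d] {s r : ℕ}

/-- block elements -/
def blk (a : Fin s → (W F K d ≃ₗ[F] W F K d)) (b : W F K d ≃ₗ[F] W F K d) :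
    ((Fin s → W F K d) × (W F K d × (Fin r → F))) ≃ₗ[F] ((Fin s → W F K d) × (W F K d × (Fin r → F))) :=
  dg (LinearEquiv.piCongrRight a) (dg b 1)

theorem blk_apply (a : Fin s → (W F K d ≃ₗ[F] W F K d)) (b : W F K d ≃ₗ[F] W F K d)
    (v : (Fin s → W F K d) × (W F K d × (Fin r → F))) : blk a b v = (fun i => a i (v.1 i), (b v.2.1, v.2.2)) := rfl

theorem blk_mul (a a' : Fin s → (W F K d ≃ₗ[F] W F K d)) (b b' : W F K d ≃ₗ[F] W F K d) :
    (blk a b * blk a' b' : _ ≃ₗ[F] ((Fin s → W F K d) × (W F K d × (Fin r → F)))) =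
      blk (fun i => a i * a' i) (b * b') := rfl

theorem blk_one : (blk (fun _ => 1) 1 : _ ≃ₗ[F] ((Fin s → W F K d) × (W F K d × (Fin r → F)))) = 1 := rfl

theorem blk_pow (a : Fin s → (W F K d ≃ₗ[F] W F K d)) (b : W F K d ≃ₗ[F] W F K d) (k : ℕ) :
    ((blk a b : _ ≃ₗ[F] ((Fin s → W F K d) × (W F K d × (Fin r → F))))) ^ k = blk (fun i => a i ^ k) (b ^ k) := by
  induction k with
  | zero => simp only [pow_zero]; rfl
  | succ k ih => rw [pow_succ, ih, blk_mul]; simp only [pow_succ]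

theorem blk_iso (hF : Fintype.card F = q ^ 2) {a : Fin s → (W F K d ≃ₗ[F] W F K d)} {b : W F K d ≃ₗ[F] W F K d}
    (ha : ∀ i, a i ∈ IsoG (fW hF K d)) (hb : b ∈ IsoG (fW hF K d)) : blk a b ∈ IsoG (fV hF K d s r) := by
  refine dg_iso ?_ (dg_iso hb (one_mem _))
  intro u v
  rw [formPi_apply, formPi_apply]
  exact Finset.sum_congr rfl fun i _ => ha i _ _

/-- the exchange of two blocks -/
def sw (i₀ : Fin s) : ((Fin s → W F K d) × (W F K d × (Fin r → F))) ≃ₗ[F]
    ((Fin s → W F K d) × (W F K d × (Fin r → F))) where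
  toFun v := (Function.update v.1 i₀ v.2.1, (v.1 i₀, v.2.2))
  invFun v := (Function.update v.1 i₀ v.2.1, (v.1 i₀, v.2.2))
  left_inv v := by
    refine Prod.ext ?_ (Prod.ext ?_ rfl)
    · change Function.update (Function.update v.1 i₀ v.2.1) i₀ (v.1 i₀) = v.1
      rw [Function.update_idem, Function.update_eq_self]
    · change Function.update v.1 i₀ v.2.1 i₀ = v.2.1
      rw [Function.update_self]
  right_inv v := by
    refine Prod.ext ?_ (Prod.ext ?_ rfl)
    · change Function.update (Function.update v.1 i₀ v.2.1) i₀ (v.1 i₀) = v.1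
      rw [Function.update_idem, Function.update_eq_self]
    · change Function.update v.1 i₀ v.2.1 i₀ = v.2.1
      rw [Function.update_self]
  map_add' v w := by
    refine Prod.ext ?_ rfl
    change Function.update (v.1 + w.1) i₀ (v.2.1 + w.2.1) = Function.update v.1 i₀ v.2.1 + Function.update w.1 i₀ w.2.1
    funext i
    by_cases hi : i = i₀
    · subst hi
      rw [Pi.add_apply, Function.update_self, Function.update_self, Function.update_self]
    · rw [Pi.add_apply, Function.update_of_ne hi, Function.update_of_ne hi, Function.update_of_ne hi, Pi.add_apply]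
  map_smul' c v := by
    refine Prod.ext ?_ rfl
    change Function.update (c • v.1) i₀ (c • v.2.1) = c • Function.update v.1 i₀ v.2.1
    funext i
    by_cases hi : i = i₀
    · subst hi
      rw [Pi.smul_apply, Function.update_self, Function.update_self]
    · rw [Pi.smul_apply, Function.update_of_ne hi, Function.update_of_ne hi, Pi.smul_apply]

theorem sw_apply (i₀ : Fin s) (v : (Fin s → W F K d) × (W F K d × (Fin r → F))) :
    sw i₀ v = (Function.update v.1 i₀ v.2.1, (v.1 i₀, v.2.2)) := rfl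

theorem sw_blk (i₀ : Fin s) (a a' : Fin s → (W F K d ≃ₗ[F] W F K d)) (b b' : W F K d ≃ₗ[F] W F K d)
    (h1 : a' i₀ = b) (h2 : a i₀ = b') (h3 : ∀ i, i ≠ i₀ → a' i = a i) :
    (sw i₀ * blk a b : _ ≃ₗ[F] ((Fin s → W F K d) × (W F K d × (Fin r → F)))) = blk a' b' * sw i₀ := by
  refine LinearEquiv.ext fun v => ?_
  rw [LinearEquiv.mul_apply, LinearEquiv.mul_apply, sw_apply, sw_apply, blk_apply, blk_apply]
  refine Prod.ext ?_ (Prod.ext ?_ rfl)
  · funext i
    by_cases hi : i = i₀
    · subst hi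
      simp only [Function.update_self, h1]
    · simp only [Function.update_of_ne hi, h3 i hi]
  · simp only [h2]

theorem sw_iso (hF : Fintype.card F = q ^ 2) (i₀ : Fin s) : (sw i₀ : _ ≃ₗ[F] ((Fin s → W F K d) × (W F K d × (Fin r → F)))) ∈
    IsoG (fV hF K d s r) := by
  classical
  intro u v
  rw [fV, fR, formProd_apply, formProd_apply, formProd_apply, formProd_apply, sw_apply, sw_apply]
  simp only [formPi_apply]
  rw [← Finset.add_sum_erase _ _ (Finset.mem_univ i₀), ← Finset.add_sum_erase _ (fun i => (fW hF K d) (u.1 i) (v.1 i))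
    (Finset.mem_univ i₀), Function.update_self, Function.update_self]
  have h1 : ∑ i ∈ Finset.univ.erase i₀, (fW hF K d) (Function.update u.1 i₀ u.2.1 i) (Function.update v.1 i₀ v.2.1 i) =
      ∑ i ∈ Finset.univ.erase i₀, (fW hF K d) (u.1 i) (v.1 i) := by
    refine Finset.sum_congr rfl fun i hi => ?_
    rw [Function.update_of_ne (Finset.ne_of_mem_erase hi), Function.update_of_ne (Finset.ne_of_mem_erase hi)]
  rw [h1]
  ring

theorem det_blk_last [FiniteDimensional F (W F K d)] (b : W F K d ≃ₗ[F] W F K d) :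
    LinearEquiv.det (blk (fun _ => 1) b : _ ≃ₗ[F] ((Fin s → W F K d) × (W F K d × (Fin r → F)))) = LinearEquiv.det b := by
  have h1 : (blk (fun _ => 1) b : _ ≃ₗ[F] ((Fin s → W F K d) × (W F K d × (Fin r → F)))) = dg 1 (dg b 1) := rfl
  rw [h1, det_dg_right, det_dg_left]

end blk

section main

variable {F : Type} [Field F] [Fintype F] {q : ℕ} {K : Type} [Field K] [Algebra F K] [Fintype K] {d : ℕ} [NeZero d]
  {l : ZMod d → Kˣ} {p : ℕ} [hp : Fact p.Prime]

/-- the order of `-q` modulo `p` -/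
theorem orderOf_neg (hd : OrdM p q d) {N : ℕ} (hN : 0 < N) (hpN : p ∣ N) : orderOf (((N - 1) * q : ℕ) : ZMod p) = d := by
  have h1 : (((N - 1) * q : ℕ) : ZMod p) = ((-(q : ℤ) : ℤ) : ZMod p) := by
    push_cast
    rw [Nat.cast_sub hN, (ZMod.natCast_eq_zero_iff _ _).2 hpN]
    ring
  rw [h1]
  apply Nat.dvd_antisymm
  · rw [orderOf_dvd_iff_pow_eq_one, ← Int.cast_pow]
    have h2 := (hd d).2 dvd_rfl
    rw [← ZMod.intCast_zmod_eq_zero_iff_dvd] at h2
    have h3 : (((-(q : ℤ)) ^ d - 1 : ℤ) : ZMod p) = 0 := by exact_mod_cast h2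
    rw [Int.cast_sub, Int.cast_one, sub_eq_zero] at h3
    exact h3
  · rw [← hd, ← ZMod.intCast_zmod_eq_zero_iff_dvd, Int.cast_sub, Int.cast_one, sub_eq_zero, Int.cast_pow]
    exact pow_orderOf_eq_one _

/-- the fusing element of the block -/
theorem exists_te (h : Reg F q l) (hK : finrank F K = d) : ∃ te : W F K d ≃ₗ[F] W F K d, te ∈ IsoG (fW h.hF K d) ∧
    LinearEquiv.det te = 1 ∧ ∀ (m : ZMod d → Kˣ) (hm : IsTor q m) (N : ℕ), 0 < N → torE (F := F) h.hF m hm ^ N = 1 →
      te * torE (F := F) h.hF m hm = torE (F := F) h.hF m hm ^ ((N - 1) * q) * te := by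
  have hshd : (LinearEquiv.det (shE (F := F) (K := K) (1 : ZMod d)))⁻¹ ^ (q + 1) = 1 := by
    have := h.finite
    obtain ⟨b, hb⟩ := exists_basis h.hF h.finrank (fW_symm h.hF) h.nd
    rw [inv_pow, det_pow h.hF b hb (shE_iso h.hF _), inv_one]
  obtain ⟨m0, hm0, hdm⟩ := exists_det h hK hshd
  refine ⟨torE (F := F) h.hF m0 hm0 * shE 1, mul_mem (torE_iso h.hF m0 hm0) (shE_iso h.hF _), by
    rw [map_mul, hdm, inv_mul_cancel], fun m hm N hN hmN => ?_⟩
  rw [torE_pow, torE_eq_one] at hmN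
  have hsh : ∀ t, m (t + 1) = (m ^ ((N - 1) * q)) t := by
    intro t
    rw [hm t, Pi.pow_apply]
    apply inv_eq_of_mul_eq_one_right
    have h1 := congrFun hmN t
    rw [Pi.pow_apply, Pi.one_apply] at h1
    rw [← pow_add]
    have h2 : q + (N - 1) * q = N * q := by
      obtain ⟨N, rfl⟩ : ∃ N', N = N' + 1 := ⟨N - 1, by omega⟩
      rw [Nat.add_sub_cancel]
      ring
    rw [h2, pow_mul, h1, one_pow]
  rw [mul_assoc, shE_torE h.hF 1 m (m ^ ((N - 1) * q)) hm (hm.pow _) hsh, ← mul_assoc, torE_comm, mul_assoc, torE_pow]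

end main

end Cfsg.Agent.H166.K6
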