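import Cfsg.Agent.H166.K6.PsuB
import Cfsg.Agent.H724.KB.RowPSU

/-!
# S4876: the rows `PSU_n(q)`, `2 d ≤ n < 3 d`, `d = ord_p(-q) ≥ 2` (helper166)
-/

set_option autoImplicit false
set_option linter.unusedSectionVars false

open Cfsg Module Subgroup Cfsg.Agent.LieClassical.HermBasic Cfsg.Agent.LieClassical.HermSiegel Cfsg.Agent.H724.KB
  Cfsg.Agent.H61.K6

namespace Cfsg.Agent.H166.K6

universe u

section general

variable {p : ℕ} [hp : Fact p.Prime]

/-- `p`-subgroups lift to `p`-subgroups -/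
theorem exists_lift {A B : Type*} [Group A] [Group B] [Finite A] {f : A →* B} (hf : Function.Surjective f)
    (Q : Subgroup B) (hQ : IsPGroup p Q) : ∃ R : Subgroup A, IsPGroup p R ∧ R.map f = Q := by
  let L := Q.comap f
  let φ : L →* Q := f.subgroupComap Q
  have hφ : Function.Surjective φ := by
    rintro ⟨b, hb⟩
    obtain ⟨a, rfl⟩ := hf b
    exact ⟨⟨a, hb⟩, rfl⟩
  obtain ⟨R⟩ : Nonempty (Sylow p L) := inferInstance
  have h1 : ((R : Subgroup L).map φ) = ⊤ := by
    rw [← Sylow.coe_mapSurjective hφ R]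
    exact ((R.mapSurjective hφ).is_maximal' (hQ.to_subgroup ⊤) le_top).symm
  refine ⟨(R : Subgroup L).map L.subtype, R.2.map _, ?_⟩
  ext b
  constructor
  · rintro ⟨_, ⟨a, -, rfl⟩, rfl⟩
    exact a.2
  · intro hb
    have h2 : (⟨b, hb⟩ : Q) ∈ (R : Subgroup L).map φ := by rw [h1]; trivial
    obtain ⟨a, ha, hab⟩ := h2
    exact ⟨_, ⟨a, ha, rfl⟩, congrArg Subtype.val hab⟩

/-- a `p`-element commuting with an element of maximal order -/
theorem mem_zpowers_of_comm {G : Type*} [Group G] [Finite G] {a : ℕ} {x t : G} (hx : orderOf x = p ^ a)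
    (h : ¬ p ^ (a + 1) ∣ Nat.card G) (ht : ∃ k, orderOf t = p ^ k) (hc : t * x = x * t) : t ∈ zpowers x := by
  have h1 : IsPGroup p (zpowers x) := IsPGroup.of_card (n := a) (by rw [Nat.card_zpowers, hx])
  obtain ⟨P, hP⟩ := h1.exists_le_sylow
  obtain ⟨b, hb⟩ := IsPGroup.iff_card.1 P.2
  have h2 : Nat.card (P : Subgroup G) ∣ Nat.card G := Subgroup.card_subgroup_dvd_card _
  have h3 : b < a + 1 := by
    by_contra h4
    apply h
    rw [hb] at h2
    exact dvd_trans (pow_dvd_pow p (by omega)) h2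
  have h4 : zpowers x = P := by
    refine Subgroup.eq_of_le_of_card_ge hP ?_
    rw [hb, Nat.card_zpowers, hx]
    exact Nat.pow_le_pow_right hp.out.pos (by omega)
  obtain ⟨k, hk⟩ := ht
  have h5 : IsPGroup p (zpowers t) := IsPGroup.of_card (n := k) (by rw [Nat.card_zpowers, hk])
  have h6 := h5.inf_normalizer_sylow P
  have h7 : t ∈ zpowers t ⊓ normalizer (P : Set G) := by
    refine ⟨mem_zpowers t, ?_⟩
    refine Subgroup.mem_normalizer_iff.2 fun y => ?_
    rw [← h4]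
    have h8 : ∀ (u : G), u * x = x * u → ∀ y ∈ zpowers x, u * y * u⁻¹ ∈ zpowers x := by
      rintro u hu _ ⟨i, rfl⟩
      have h9 : Commute u (x ^ i) := (show Commute u x from hu).zpow_right i
      change u * x ^ i * u⁻¹ ∈ zpowers x
      rw [h9.eq, mul_inv_cancel_right]
      exact ⟨i, rfl⟩
    constructor
    · exact h8 t hc y
    · intro h9
      have h10 := h8 t⁻¹ (by rw [inv_mul_eq_iff_eq_mul, ← mul_assoc, hc, mul_assoc, mul_inv_cancel, mul_one]) _ h9
      have h11 : t⁻¹ * (t * y * t⁻¹) * t⁻¹⁻¹ = y := by group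
      rwa [h11] at h10
  rw [h6] at h7
  rw [h4]
  exact h7.2

end general

section res

variable {F : Type} [Field F] {X Y : Type} [AddCommGroup X] [Module F X] [AddCommGroup Y] [Module F Y] {σ : F →+* F}
  {S : X →ₛₗ[σ] X →ₗ[F] F} {S' : Y →ₛₗ[σ] Y →ₗ[F] F}

/-- the elements acting trivially on the second factor -/
def fixG (S : X →ₛₗ[σ] X →ₗ[F] F) (S' : Y →ₛₗ[σ] Y →ₗ[F] F) : Subgroup ↥(SUs (formProd S S')) where
  carrier := {g | ∀ w : Y, (g : (X × Y) ≃ₗ[F] (X × Y)) (0, w) = (0, w)}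
  mul_mem' {a b} ha hb w := by
    change (a : (X × Y) ≃ₗ[F] (X × Y)) ((b : (X × Y) ≃ₗ[F] (X × Y)) (0, w)) = (0, w)
    rw [hb, ha]
  one_mem' w := rfl
  inv_mem' {a} ha w := by
    change ((a : (X × Y) ≃ₗ[F] (X × Y))).symm (0, w) = (0, w)
    rw [LinearEquiv.symm_apply_eq]
    exact (ha w).symm

theorem fixG_left (hnd : S'.SeparatingLeft) {g : ↥(SUs (formProd S S'))} (hg : g ∈ fixG S S') (v : X) :
    (g : (X × Y) ≃ₗ[F] (X × Y)) (v, 0) = (((g : (X × Y) ≃ₗ[F] (X × Y)) (v, 0)).1, 0) := by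
  refine Prod.ext rfl ?_
  refine hnd _ fun w => ?_
  have h1 := (mem_SUs.1 g.2).1 (v, 0) (0, w)
  rw [hg w, formProd_apply, formProd_apply, map_zero, zero_add, map_zero, zero_add, map_zero,
    LinearMap.zero_apply] at h1
  exact h1

/-- the action on the first factor -/
noncomputable def resX (hnd : S'.SeparatingLeft) : ↥(fixG S S') →* ↥(IsoG S) where
  toFun g := ⟨
    { toFun := fun v => (((g : ↥(SUs (formProd S S'))) : (X × Y) ≃ₗ[F] (X × Y)) (v, 0)).1
      invFun := fun v => ((((g⁻¹ : ↥(fixG S S')) : ↥(SUs (formProd S S'))) : (X × Y) ≃ₗ[F] (X × Y)) (v, 0)).1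
      map_add' := fun v v' => by
        rw [← Prod.fst_add, ← map_add, Prod.mk_add_mk, add_zero]
      map_smul' := fun c v => by
        rw [RingHom.id_apply, ← Prod.smul_fst, ← map_smul, Prod.smul_mk, smul_zero]
      left_inv := fun v => by
        have h1 := fixG_left hnd g.2 v
        dsimp only
        rw [← h1]
        change ((((g : ↥(SUs (formProd S S'))) : (X × Y) ≃ₗ[F] (X × Y)).symm)
          (((g : ↥(SUs (formProd S S'))) : (X × Y) ≃ₗ[F] (X × Y)) (v, 0))).1 = v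
        rw [LinearEquiv.symm_apply_apply]
      right_inv := fun v => by
        have h1 := fixG_left hnd (g⁻¹).2 v
        dsimp only
        rw [← h1]
        change (((g : ↥(SUs (formProd S S'))) : (X × Y) ≃ₗ[F] (X × Y))
          ((((g : ↥(SUs (formProd S S'))) : (X × Y) ≃ₗ[F] (X × Y)).symm) (v, 0))).1 = v
        rw [LinearEquiv.apply_symm_apply] }, fun v v' => by
      have h1 := fixG_left hnd g.2 v
      have h2 := fixG_left hnd g.2 v'
      have h3 := (mem_SUs.1 (g : ↥(SUs (formProd S S'))).2).1 (v, 0) (v', 0)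
      rw [h1, h2, formProd_apply, formProd_apply, map_zero, add_zero, add_zero] at h3
      exact h3⟩
  map_one' := Subtype.ext (LinearEquiv.ext fun w => rfl)
  map_mul' g h := Subtype.ext (LinearEquiv.ext fun v => by
    have h1 := fixG_left hnd h.2 v
    change (((g : ↥(SUs (formProd S S'))) : (X × Y) ≃ₗ[F] (X × Y))
      (((h : ↥(SUs (formProd S S'))) : (X × Y) ≃ₗ[F] (X × Y)) (v, 0))).1 =
      (((g : ↥(SUs (formProd S S'))) : (X × Y) ≃ₗ[F] (X × Y))
      ((((h : ↥(SUs (formProd S S'))) : (X × Y) ≃ₗ[F] (X × Y)) (v, 0)).1, 0)).1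
    rw [← h1])

theorem resX_injective (hnd : S'.SeparatingLeft) : Function.Injective (resX (S := S) hnd) := by
  rw [injective_iff_map_eq_one]
  intro g hg
  apply Subtype.ext
  apply Subtype.ext
  refine LinearEquiv.ext fun v => ?_
  have h1 : (((g : ↥(SUs (formProd S S'))) : (X × Y) ≃ₗ[F] (X × Y)) (v.1, 0)).1 = v.1 :=
    congrArg (fun f : ↥(IsoG S) => (f : X ≃ₗ[F] X) v.1) hg
  have h2 := fixG_left hnd g.2 v.1
  rw [h1] at h2
  have h3 := g.2 v.2
  have h4 : v = (v.1, 0) + (0, v.2) := by rw [Prod.mk_add_mk, add_zero, zero_add]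
  change ((g : ↥(SUs (formProd S S'))) : (X × Y) ≃ₗ[F] (X × Y)) v = v
  rw [h4, map_add, h2, h3]

variable {p : ℕ} [hp : Fact p.Prime]

/-- the `p`-subgroups of the centralizer are cyclic modulo `z` -/
theorem cyc_mod [Finite ↥(IsoG S)] {z : ↥(SUs (formProd S S'))} {a : X ≃ₗ[F] X}
    (hz : (z : (X × Y) ≃ₗ[F] (X × Y)) = dg a 1) (ha : ∀ v, a v = v → v = 0) (hnd : S'.SeparatingLeft) {e : ℕ}
    (hzo : orderOf z = p ^ e) (hcard : ¬ p ^ (e + 1) ∣ Nat.card (IsoG S))
    (hcyc : ∀ R : Subgroup (IsoG S'), IsPGroup p R → IsCyclic R) (R : Subgroup ↥(SUs (formProd S S'))) (hR : IsPGroup p R)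
    (hRz : ∀ g ∈ R, g * z = z * g) : ∃ g ∈ R, ∀ ρ ∈ R, ∃ i k : ℤ, ρ = g ^ i * z ^ k := by
  have hRC : R ≤ centralizer ({z} : Set ↥(SUs (formProd S S'))) := fun g hg =>
    mem_centralizer_singleton_iff.2 (hRz g hg)
  obtain ⟨⟨g0, hg0⟩, hgen⟩ := (hcyc ((R.subgroupOf (centralizer ({z} : Set ↥(SUs (formProd S S'))))).map
    (resF hz ha)) ((hR.comap_subtype).map _)).exists_generator
  obtain ⟨g1, hg1, rfl⟩ := hg0
  refine ⟨g1.1, hg1, fun ρ hρ => ?_⟩
  obtain ⟨i, hi⟩ := hgen ⟨resF hz ha ⟨ρ, hRC hρ⟩, ⟨⟨ρ, hRC hρ⟩, hρ, rfl⟩⟩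
  have hi' : (resF hz ha g1) ^ i = resF hz ha ⟨ρ, hRC hρ⟩ := congrArg Subtype.val hi
  have ht1 : resF hz ha (⟨ρ, hRC hρ⟩ * (g1 ^ i)⁻¹) = 1 := by rw [map_mul, map_inv, map_zpow, hi', mul_inv_cancel]
  set t : ↥(centralizer ({z} : Set ↥(SUs (formProd S S')))) := ⟨ρ, hRC hρ⟩ * (g1 ^ i)⁻¹ with ht
  have htR : (t : ↥(SUs (formProd S S'))) ∈ R := by
    rw [ht]
    exact mul_mem hρ (inv_mem (zpow_mem hg1 i))
  have htF : (t : ↥(SUs (formProd S S'))) ∈ fixG S S' := by
    intro w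
    rw [fix_of_comm hz ha (mem_centralizer_singleton_iff.1 t.2) w]
    have h1 := congrArg (fun g : ↥(IsoG S') => (g : Y ≃ₗ[F] Y) w) ht1
    exact congrArg (fun w' => ((0 : X), w')) h1
  have hzF : z ∈ fixG S S' := by
    intro w
    rw [hz, dg_apply, map_zero]
    rfl
  have hψ := resX_injective (S := S) hnd
  have h2 : resX hnd ⟨t, htF⟩ ∈ zpowers (resX hnd ⟨z, hzF⟩) := by
    refine mem_zpowers_of_comm (p := p) (a := e) ?_ hcard ?_ ?_
    · rw [orderOf_injective _ hψ, Subgroup.orderOf_mk, hzo]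
    · rw [orderOf_injective _ hψ, Subgroup.orderOf_mk]
      obtain ⟨k, hk⟩ := (IsPGroup.iff_orderOf.1 hR) ⟨t, htR⟩
      exact ⟨k, (Subgroup.orderOf_mk _ _).symm.trans hk⟩
    · rw [← map_mul, ← map_mul]
      congr 1
      exact Subtype.ext (hRz _ htR)
  obtain ⟨k, hk⟩ := h2
  have h3 : (⟨z, hzF⟩ : ↥(fixG S S')) ^ k = ⟨t, htF⟩ := by
    apply hψ
    rw [map_zpow]
    exact hk
  have h4 : z ^ k = (t : ↥(SUs (formProd S S'))) := congrArg Subtype.val h3
  refine ⟨i, k, ?_⟩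
  have h5 : ρ = (t : ↥(SUs (formProd S S'))) * (g1 : ↥(SUs (formProd S S'))) ^ i := by
    rw [ht]
    change ρ = ρ * ((g1 : ↥(SUs (formProd S S'))) ^ i)⁻¹ * (g1 : ↥(SUs (formProd S S'))) ^ i
    rw [inv_mul_cancel_right]
  have h6 : Commute (z ^ k) ((g1 : ↥(SUs (formProd S S'))) ^ i) :=
    ((show Commute (g1 : ↥(SUs (formProd S S'))) z from hRz _ hg1).symm.zpow_left k).zpow_right i
  rw [h5, ← h4, h6.eq]

end res

section cyc

variable {F : Type} [Field F] [Fintype F] {q : ℕ} {K : Type} [Field K] [Algebra F K] [Fintype K] {d : ℕ} [NeZero d]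
  {l : ZMod d → Kˣ} {p : ℕ} [hp : Fact p.Prime] {r n : ℕ}

theorem torE_fix (hF : Fintype.card F = q ^ 2) (m : ZMod d → Kˣ) (hm : IsTor q m) (h1 : ∀ j, m j ≠ 1) {v : W F K d}
    (hv : torE hF m hm v = v) : v = 0 := by
  apply Subtype.ext
  funext j
  have h2 : (m j : K) * v.1 j = v.1 j := congrArg (fun w : W F K d => w.1 j) hv
  have h3 : ((m j : K) - 1) * v.1 j = 0 := by rw [sub_mul, h2, one_mul, sub_self]
  exact (mul_eq_zero.1 h3).resolve_left (sub_ne_zero.2 fun h4 => h1 j (Units.ext h4))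

theorem torV_ne_one (hd : OrdM p q d) {μ : Kˣ} {a : ℕ} (ha : 1 ≤ a) (hμ : orderOf μ = p ^ a) (j : ZMod d) :
    torV q d μ j ≠ 1 := by
  intro h1
  unfold torV at h1
  rw [← orderOf_dvd_iff_zpow_eq_one, hμ] at h1
  have h2 : (p : ℤ) ∣ ((p ^ a : ℕ) : ℤ) := by
    push_cast
    exact dvd_pow_self _ (by omega)
  have h3 := h2.trans h1
  exact hd.not_dvd hp.out (dvd_neg.1 ((Nat.prime_iff_prime_int.1 hp.out).dvd_of_dvd_pow h3))

set_option maxHeartbeats 1600000 in
/-- an element of weight `d` -/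
theorem exists_z (h : Reg F q l) (hl : ∀ j, orderOf (l j) = p) (hK : finrank F K = d) (hd : OrdM p q d)
    (hq : p.Coprime (q + 1)) (hr : r < d) (P : PhiD h.hF (fV h.hF K d 1 r) n) :
    ∃ (z : ↥(SUs (fV h.hF K d 1 r))) (k : ℕ), orderOf z = p ^ k ∧ 1 ≤ k ∧ ¬ ((p ^ (k + 1) : ℕ) : ℤ) ∣ (-(q : ℤ)) ^ d - 1 ∧
      (∀ v, z.1 v = v ↔ v.1 = 0) ∧ WtGe.{u, 0} p (P.φ z) d := by
  classical
  have : Finite (PSU n F q) := by
    have : Finite (SU n F q) := Finite.of_injective (mat : SU n F q → _) mat_injective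
    infer_instance
  have := h.finite
  have hfV := finite_V (s := 1) (r := r) h
  have : Finite (((Fin 1 → W F K d) × (W F K d × (Fin r → F))) ≃ₗ[F] ((Fin 1 → W F K d) × (W F K d × (Fin r → F)))) :=
    finite_aut
  have : Finite (Fin 1 → W F K d) := Finite.of_injective (fun v => ((v, 0) : (Fin 1 → W F K d) × (W F K d × (Fin r → F))))
    fun a b hab => congrArg (fun w => w.1) hab
  have : Finite ((Fin 1 → W F K d) ≃ₗ[F] (Fin 1 → W F K d)) := finite_aut
  obtain ⟨a, ha1, ha2⟩ := exists_max (d := d) (two_le h.hF) hp.out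
  obtain ⟨μ, hμo, hμ⟩ := exists_order h.hF hK ha1
  have ha : 1 ≤ a := by
    by_contra h0
    have h0' : a = 0 := by omega
    subst h0'
    apply ha2
    rw [zero_add, pow_one]
    exact (hd d).2 dvd_rfl
  set Z : W F K d ≃ₗ[F] W F K d := torE (F := F) h.hF (torV q d μ) (isTor_torV hμ) with hZ
  have hZN : Z ^ p ^ a = 1 := by
    rw [hZ, torE_pow, torE_eq_one, torV_pow, ← hμo, pow_orderOf_eq_one]
    funext j
    exact one_zpow _
  have hZfix : ∀ v, Z v = v → v = 0 := fun v hv =>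
    torE_fix h.hF _ (isTor_torV hμ) (torV_ne_one hd ha hμo) hv
  have hZi : Z ∈ IsoG (fW h.hF K d) := torE_iso h.hF _ _
  have hNq : (p ^ a).Coprime (q + 1) := Nat.Coprime.pow_left _ hq
  let z : ↥(SUs (fV h.hF K d 1 r)) := mk h (p ^ a) hNq (fun _ => Z) 1 (fun _ => hZi) (one_mem _) (fun _ => hZN) (one_pow _)
  have hzN : z ^ p ^ a = 1 := mk_pow _ _ _ _ _ _ _ _ _
  have hzfix : ∀ v, z.1 v = v ↔ v.1 = 0 := by
    intro v
    constructor
    · intro h1
      have h2 : ∀ i, Z (v.1 i) = v.1 i := fun i =>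
        congrFun (congrArg (fun w : (Fin 1 → W F K d) × (W F K d × (Fin r → F)) => w.1) h1) i
      exact funext fun i => hZfix _ (h2 i)
    · intro h1
      refine Prod.ext (funext fun i => ?_) rfl
      change Z (v.1 i) = v.1 i
      rw [h1]
      exact map_zero Z
  have hz1 : z ≠ 1 := by
    intro h1
    have h2 : (fun _ : Fin 1 => (one' : W F K d)) = 0 := (hzfix (fun _ => one', 0)).1 (by rw [h1]; rfl)
    exact one'_ne_zero (congrFun h2 0)
  have hzo : orderOf z = p ^ a := by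
    rw [← hμo, ← orderOf_torE (F := F) h.hF hμ, orderOf_eq_orderOf_iff]
    intro k
    constructor
    · intro h3
      have h4 : (blk (fun _ => Z) 1 : ((Fin 1 → W F K d) × (W F K d × (Fin r → F))) ≃ₗ[F] _) ^ k = 1 :=
        congrArg Subtype.val h3
      rw [blk_pow] at h4
      refine LinearEquiv.ext fun v => ?_
      exact congrFun (congrArg (fun g : ((Fin 1 → W F K d) × (W F K d × (Fin r → F))) ≃ₗ[F]
        ((Fin 1 → W F K d) × (W F K d × (Fin r → F))) => (g (fun _ => v, 0)).1) h4) 0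
    · intro h3
      apply Subtype.ext
      change (blk (fun _ => Z) 1 : ((Fin 1 → W F K d) × (W F K d × (Fin r → F))) ≃ₗ[F] _) ^ k = 1
      rw [blk_pow, hZ, h3, one_pow]
      rfl
  -- the other elements
  obtain ⟨te, hti, htd, hte⟩ := exists_te h hK
  have hTT := hte l h.tor p hp.out.pos (TT_pow h hl)
  let y : ↥(SUs (fV h.hF K d 1 r)) := mk h p hq (fun _ => 1) (TT h) (fun _ => one_mem _) (TT_iso h)
    (fun _ => one_pow _) (TT_pow h hl)
  have hyp : y ^ p = 1 := mk_pow _ _ _ _ _ _ _ _ _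
  let c : ↥(SUs (fV h.hF K d 1 r)) := ⟨blk (fun _ => 1) te, mem_SUs.2 ⟨blk_iso h.hF (fun _ => one_mem _) hti, by
    rw [det_blk_last, htd]⟩⟩
  have hyz : y * z = z * y := by
    apply Subtype.ext
    change blk (fun _ => 1) (TT h) * blk (fun _ => Z) 1 = blk (fun _ => Z) 1 * blk (fun _ => 1) (TT h)
    rw [blk_mul, blk_mul]
    simp only [one_mul, mul_one]
  have hcz : c * z = z * c := by
    apply Subtype.ext
    change blk (fun _ => 1) te * blk (fun _ => Z) 1 = blk (fun _ => Z) 1 * blk (fun _ => 1) te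
    rw [blk_mul, blk_mul]
    simp only [one_mul, mul_one]
  have hcy : c * y = y ^ ((p - 1) * q) * c := by
    apply Subtype.ext
    change blk (fun _ => 1) te * blk (fun _ => 1) (TT h) = (blk (fun _ => 1) (TT h)) ^ ((p - 1) * q) * blk (fun _ => 1) te
    rw [blk_pow, blk_mul, blk_mul]
    simp only [one_mul, one_pow]
    rw [TT]
    rw [hTT]
  have hyfix : y.1 (0, (one', 0)) ≠ (0, (one', 0)) := by
    intro h1
    have h2 : TT h (one' : W F K d) = one' :=
      congrArg (fun w : (Fin 1 → W F K d) × (W F K d × (Fin r → F)) => w.2.1) h1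
    exact one'_ne_zero (TT_fix h hl h2)
  have hy1 : y ≠ 1 := by
    intro h1
    apply hyfix
    rw [h1]
    rfl
  -- the commutator trick
  have hlift : ∀ g : ↥(SUs (fV h.hF K d 1 r)), P.φ g * P.φ z = P.φ z * P.φ g → g * z = z * g := by
    intro g hg
    have h1 : P.φ (g * z * g⁻¹ * z⁻¹) = 1 := by
      rw [map_mul, map_mul, map_mul, hg, map_inv, map_inv, mul_inv_cancel_right, mul_inv_cancel]
    set cc := g * z * g⁻¹ * z⁻¹ with hcc
    have h2 : cc * z = g * z * g⁻¹ := by rw [hcc, inv_mul_cancel_right]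
    have h3 : cc ^ p ^ a = 1 := by
      have h4 : (cc * z) ^ p ^ a = cc ^ p ^ a * z ^ p ^ a := (show Commute cc z from P.ker_comm _ h1 z).mul_pow _
      rw [h2, conj_pow, hzN, mul_one, mul_one, mul_inv_cancel] at h4
      exact h4.symm
    have h5 := P.eq_one hNq h3 h1
    rw [h5, one_mul] at h2
    rw [eq_mul_inv_iff_mul_eq] at h2
    exact h2.symm
  refine ⟨z, a, hzo, ha, ha2, hzfix, ?_⟩
  have hgoal : WtGe.{u, 0} p (P.φ z) (orderOf (((p - 1) * q : ℕ) : ZMod p)) → WtGe.{u, 0} p (P.φ z) d := fun h0 =>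
    h0.mono (orderOf_neg hd hp.out.pos (dvd_refl p)).ge
  refine hgoal (wtGe_of_cyc (y := P.φ y) (c := P.φ c) (P.el hq hzN hz1).1 (by rw [← map_mul, ← map_mul, hyz])
    (by rw [← map_mul, ← map_mul, hcz]) (P.el hq (k := 1) (by rw [pow_one]; exact hyp) hy1).1 ?_ ?_ ?_)
  · rintro ⟨i, hi⟩
    have h1 : P.φ (z ^ i * y⁻¹) = 1 := by
      rw [map_mul, map_zpow, map_inv]
      change P.φ z ^ i = P.φ y at hi
      rw [hi, mul_inv_cancel]
    have hcm : Commute (z ^ i) (y⁻¹) := ((show Commute y z from hyz).symm.zpow_left i).inv_right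
    have h2 : (z ^ i * y⁻¹) ^ p ^ a = 1 := by
      rw [hcm.mul_pow, ← zpow_natCast, ← zpow_mul, mul_comm, zpow_mul, zpow_natCast, hzN, one_zpow, one_mul, inv_pow]
      obtain ⟨b, rfl⟩ : ∃ b, a = b + 1 := ⟨a - 1, by omega⟩
      rw [pow_succ', pow_mul, hyp, one_pow, inv_one]
    have h3 := P.eq_one hNq h2 h1
    rw [mul_inv_eq_one] at h3
    apply hyfix
    rw [← h3]
    have h4 : ∀ k : ℤ, (z ^ k).1 (0, (one', 0)) = (0, (one', 0)) := by
      intro k
      have h5 : z ∈ fixG (formPi 1 (fW h.hF K d)) (fR h.hF K d r) := fun w => (hzfix (0, w)).2 rfl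
      exact (zpow_mem h5 k) (one', 0)
    exact h4 i
  · rw [mul_inv_eq_iff_eq_mul, ← map_mul, hcy, map_mul, map_pow]
  · intro Q hQ hQz
    obtain ⟨R, hR, hRQ⟩ := exists_lift P.surj Q hQ
    have hRz : ∀ g ∈ R, g * z = z * g := fun g hg => hlift g (hQz _ (by rw [← hRQ]; exact ⟨g, hg, rfl⟩))
    have hpfix : ∀ v : Fin 1 → W F K d, piE 1 Z v = v → v = 0 := fun v hv => funext fun i => hZfix _ (congrFun hv i)
    have h3 : finrank F (Fin 1 → W F K d) = d := by
      rw [Module.finrank_pi_fintype]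
      simp only [h.finrank, Finset.sum_const, Finset.card_univ, Fintype.card_fin, one_smul]
    obtain ⟨g1, hg1, hg⟩ : ∃ g ∈ R, ∀ ρ ∈ R, ∃ i k : ℤ, ρ = g ^ i * z ^ k := cyc_mod (p := p) (z := z) (a := piE 1 Z) (S := formPi 1 (fW h.hF K d)) (S' := fR h.hF K d r) rfl
      hpfix (fR_nd h r) (e := a) hzo (by
        rw [card_IsoG h.hF h3 (formPi_symm (fW_symm h.hF)) (formPi_nd h.nd)]
        exact not_dvd_GU h.hF hp.out hd ha2 (by have := NeZero.pos d; omega)) (cyc_R h hK hd hr) R hR hRz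
    refine ⟨P.φ g1, by rw [← hRQ]; exact ⟨g1, hg1, rfl⟩, fun b hb => ?_⟩
    rw [← hRQ] at hb
    obtain ⟨ρ, hρ, rfl⟩ := hb
    obtain ⟨i, k, hik⟩ := hg ρ hρ
    exact ⟨i, k, by rw [hik, map_mul, map_zpow, map_zpow]⟩

/-- **`2 d ≤ n < 3 d`, `d ≥ 3`** -/
theorem row_block_two (h : Reg F q l) (hl : ∀ j, orderOf (l j) = p) (hK : finrank F K = d) (hd : OrdM p q d)
    (hp2 : p ≠ 2) (hq : p.Coprime (q + 1)) (hd3 : 3 ≤ d) (hr : r < d) (P : PhiD h.hF (fV h.hF K d 1 r) n)
    (hX : ¬ HasNormalPComplement p (PSU n F q)) : KRow.{u, 0} p (PSU n F q) := by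
  classical
  have : Finite (PSU n F q) := by
    have : Finite (SU n F q) := Finite.of_injective (mat : SU n F q → _) mat_injective
    infer_instance
  have hfV := finite_V (s := 1) (r := r) h
  obtain ⟨z, k, hzo, hk, -, hzf, hzw⟩ := exists_z.{u} h hl hK hd hq hr P
  have hz : z ^ p ^ k = 1 := by rw [← hzo, pow_orderOf_eq_one]
  have hz1 : z ≠ 1 := by
    intro h1
    rw [h1, orderOf_one] at hzo
    exact (Nat.one_lt_pow (by omega) hp.out.one_lt).ne hzo
  let x : ↥(SUs (fV h.hF K d 1 r)) := EE h hl hq (fun _ => true) true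
  have hx : x ^ p = 1 := EE_pow _ _ _ _ _
  refine row_of_list hX ![P.φ z, P.φ x] ![3, 2] ?_ ?_ ?_ (by simp)
  · intro i
    fin_cases i
    · exact P.el hq hz hz1
    · exact EE_el h hl hq _ _ (Or.inr rfl) P
  · intro i j hij σ
    fin_cases i <;> fin_cases j <;> simp at hij
    change σ (P.φ z) ≠ P.φ x
    refine P.ne_of_fix (m := p ^ (k + 1)) (Nat.Coprime.pow_left _ hq) (by rw [pow_succ, pow_mul, hz, one_pow])
      (by rw [pow_succ', pow_mul, hx, one_pow]) (ne_of_gt (Set.ncard_lt_ncard ?_ (Set.toFinite _))) σ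
    rw [Set.ssubset_iff_subset_ne]
    constructor
    · intro v hv
      have h1 := (EE_fix h hl hq _ _ v).1 hv
      exact (hzf v).2 (funext fun i => h1.1 i rfl)
    · intro h1
      have h2 : ((0 : Fin 1 → W F K d), ((one' : W F K d), (0 : Fin r → F))) ∈ {v | z.1 v = v} := (hzf _).2 rfl
      rw [← h1] at h2
      exact one'_ne_zero (((EE_fix h hl hq _ _ _).1 h2).2 rfl)
  · intro i
    fin_cases i
    · exact hzw.mono hd3
    · have hw : wt p (P.φ x) = 2 := by
        refine wt_pair h hl hK hp2 hq P (x := x) (a := fun i => TT h) 0 (m := l) (hm := h.tor) rfl ?_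
        change blk (fun i => if true then TT h else 1) (if true then TT h else 1) = _
        simp [TT]
      have := wtGe_wt.{u, 0} (p := p) (P.φ x)
      rw [hw] at this
      exact this

end cyc

section four

variable {F : Type} [Field F] [Fintype F] {q : ℕ} {K : Type} [Field K] [Algebra F K] [Fintype K]
  {l : ZMod 2 → Kˣ} {p : ℕ} [hp : Fact p.Prime] {r n : ℕ}

/-- the third element is not conjugate to the second one -/
theorem not_conj_four (h : Reg F q l) (hl : ∀ j, orderOf (l j) = p) (hp5 : 5 ≤ p) (hpq : p ∣ q - 1) (hq1 : 1 ≤ q)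
    (hq : p.Coprime (q + 1)) (P : PhiD h.hF (fV h.hF K 2 1 r) n) {x y : ↥(SUs (fV h.hF K 2 1 r))}
    (hx : x.1 = blk (fun _ => TT h) (TT h)) (hy : y.1 = blk (fun _ => TT h) (TT h ^ 2)) (hxp : x ^ p = 1)
    (hyp : y ^ p = 1) (σ : PSU n F q ≃* PSU n F q) : σ (P.φ x) ≠ P.φ y := by
  intro hσ
  obtain ⟨Φ, ρ, hadd, hsmul, hΦ⟩ := P.semi σ x y p hq hxp hyp hσ
  set a : K := (l 0 : K) with ha
  have haq : (l 0) ^ q = l 0 := by
    have h1 : (l 0) ^ (q - 1) = 1 := by rw [← orderOf_dvd_iff_pow_eq_one, hl]; exact hpq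
    have h2 : q = (q - 1) + 1 := by omega
    rw [h2, pow_succ, h1, one_mul]
  have hl1 : (l 1 : K) = a⁻¹ := by
    have h1 := h.tor 0
    rw [zero_add, haq] at h1
    rw [h1, Units.val_inv_eq_inv_val]
  have ha0 : a ≠ 0 := (l 0).ne_zero
  -- the trace
  have hfa : FiniteField.frobeniusAlgHom F K a = a := by
    rw [FiniteField.frobeniusAlgHom_apply, h.hF, sq, pow_mul, ha, ← Units.val_pow_eq_pow_val, haq,
      ← Units.val_pow_eq_pow_val, haq]
  obtain ⟨τ, hτ⟩ := exists_of_frob (F := F) (x := a + a⁻¹) (by rw [map_add, map_inv₀, hfa])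
  have hlj : ∀ j : ZMod 2, (l j : K) * (l j : K) + 1 = algebraMap F K τ * (l j : K) := by
    intro j
    rw [hτ]
    fin_cases j
    · change a * a + 1 = (a + a⁻¹) * a
      rw [add_mul, inv_mul_cancel₀ ha0]
    · change (l 1 : K) * (l 1 : K) + 1 = (a + a⁻¹) * (l 1 : K)
      rw [hl1, add_mul, mul_inv_cancel₀ ha0, add_comm]
  have hT : ∀ v : W F K 2, TT h (TT h v) + v = τ • TT h v := by
    intro v
    apply Subtype.ext
    funext j
    change (l j : K) * ((l j : K) * v.1 j) + v.1 j = τ • ((l j : K) * v.1 j)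
    rw [Algebra.smul_def, ← mul_assoc, ← mul_assoc, ← hlj]
    ring
  have hΦ0 : Φ 0 = 0 := by
    have h1 := hadd 0 0
    rw [add_zero] at h1
    exact left_eq_add.1 h1
  have hsub : ∀ v w, Φ (v - w) = Φ v - Φ w := by
    intro v w
    rw [eq_sub_iff_add_eq, ← hadd, sub_add_cancel]
  -- the relation for `x`
  have hrx : ∀ w, x.1 (x.1 (x.1 w - w)) + (x.1 w - w) = τ • x.1 (x.1 w - w) := by
    intro w
    rw [hx]
    refine Prod.ext (funext fun i => ?_) (Prod.ext ?_ ?_)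
    · exact hT (TT h (w.1 i) - w.1 i)
    · exact hT (TT h w.2.1 - w.2.1)
    · change (w.2.2 - w.2.2) + (w.2.2 - w.2.2) = τ • (w.2.2 - w.2.2)
      rw [sub_self, add_zero, smul_zero]
  have hry : ∀ u, y.1 (y.1 (y.1 u - u)) + (y.1 u - u) = ρ τ • y.1 (y.1 u - u) := by
    intro u
    obtain ⟨w, rfl⟩ := Φ.surjective u
    have h1 : y.1 (Φ w) - Φ w = Φ (x.1 w - w) := by rw [hΦ, hsub]
    rw [h1, hΦ, hΦ, ← hadd, hrx, hsmul]
  have e1 : a * (a * (a - 1)) + (a - 1) = algebraMap F K (ρ τ) * (a * (a - 1)) := by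
    have h1 := hry (fun _ => one', 0)
    rw [hy] at h1
    have h2 := congrArg (fun w : (Fin 1 → W F K 2) × (W F K 2 × (Fin r → F)) => (w.1 0).1 0) h1
    have h3 : (l 0 : K) * ((l 0 : K) * ((l 0 : K) * 1 - 1)) + ((l 0 : K) * 1 - 1) =
      ρ τ • ((l 0 : K) * ((l 0 : K) * 1 - 1)) := h2
    rw [mul_one, Algebra.smul_def] at h3
    exact h3
  have e2 : (a * (a * (a * (a * (a * a - 1))))) + (a * a - 1) = algebraMap F K (ρ τ) * (a * (a * (a * a - 1))) := by
    have h1 := hry (0, (one', 0))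
    rw [hy] at h1
    have h2 := congrArg (fun w : (Fin 1 → W F K 2) × (W F K 2 × (Fin r → F)) => (w.2.1).1 0) h1
    have h3 : (l 0 : K) * ((l 0 : K) * ((l 0 : K) * ((l 0 : K) * ((l 0 : K) * ((l 0 : K) * 1) - 1)))) +
      ((l 0 : K) * ((l 0 : K) * 1) - 1) = ρ τ • ((l 0 : K) * ((l 0 : K) * ((l 0 : K) * ((l 0 : K) * 1) - 1))) := h2
    rw [mul_one, Algebra.smul_def] at h3
    exact h3
  have hne : ∀ k : ℕ, 0 < k → k < p → a ^ k ≠ 1 := by
    intro k hk hkp h1
    have h2 : (l 0) ^ k = 1 := Units.ext (by rw [Units.val_pow_eq_pow_val]; exact h1)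
    have h3 := orderOf_dvd_of_pow_eq_one h2
    rw [hl] at h3
    exact absurd (Nat.le_of_dvd hk h3) (by omega)
  have n1 : a - 1 ≠ 0 := by
    have := hne 1 one_pos (by omega)
    rw [pow_one] at this
    exact sub_ne_zero.2 this
  have n2 : a * a - 1 ≠ 0 := by
    have := hne 2 two_pos (by omega)
    rw [pow_two] at this
    exact sub_ne_zero.2 this
  have n3 : a ^ 3 - 1 ≠ 0 := sub_ne_zero.2 (hne 3 (by omega) (by omega))
  have f1 : a * a + 1 = algebraMap F K (ρ τ) * a := by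
    apply mul_right_cancel₀ n1
    linear_combination e1
  have f2 : a * a * a * a + 1 = algebraMap F K (ρ τ) * (a * a) := by
    apply mul_right_cancel₀ n2
    linear_combination e2
  have f3 : (a ^ 3 - 1) * (a - 1) = 0 := by linear_combination f2 - a * f1
  rcases mul_eq_zero.1 f3 with h1 | h1
  · exact n3 h1
  · exact n1 h1

/-- **`d = 2`, `n = 4, 5`** -/
theorem row_block_four (h : Reg F q l) (hl : ∀ j, orderOf (l j) = p) (hK : finrank F K = 2) (hd : OrdM p q 2)
    (hp2 : p ≠ 2) (hq1 : 1 ≤ q) (hq : p.Coprime (q + 1)) (hr : r < 2) (P : PhiD h.hF (fV h.hF K 2 1 r) n)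
    (hX : ¬ HasNormalPComplement p (PSU n F q)) (h9 : p < 5 → ((p ^ 2 : ℕ) : ℤ) ∣ (-(q : ℤ)) ^ 2 - 1) :
    KRow.{u, 0} p (PSU n F q) := by
  classical
  have : Finite (PSU n F q) := by
    have : Finite (SU n F q) := Finite.of_injective (mat : SU n F q → _) mat_injective
    infer_instance
  have hfV := finite_V (s := 1) (r := r) h
  let x₁ : ↥(SUs (fV h.hF K 2 1 r)) := EE h hl hq (fun _ => true) false
  let x₂ : ↥(SUs (fV h.hF K 2 1 r)) := EE h hl hq (fun _ => true) true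
  have hx₁ : x₁ ^ p = 1 := EE_pow _ _ _ _ _
  have hx₂ : x₂ ^ p = 1 := EE_pow _ _ _ _ _
  have e1 : x₁.1 = blk (fun _ => TT h) 1 := by
    change blk (fun i => if true then TT h else 1) (if false then TT h else 1) = _
    simp
  have e2 : x₂.1 = blk (fun _ => TT h) (TT h) := by
    change blk (fun i => if true then TT h else 1) (if true then TT h else 1) = _
    simp
  have w1 : WtGe.{u, 0} p (P.φ x₁) 2 := by
    have hw : wt p (P.φ x₁) = 2 := wt_last h hl hK hd hq le_rfl P e1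
    have := wtGe_wt.{u, 0} (p := p) (P.φ x₁)
    rwa [hw] at this
  have w2 : WtGe.{u, 0} p (P.φ x₂) 2 := by
    have hw : wt p (P.φ x₂) = 2 := wt_pair h hl hK hp2 hq P (x := x₂) (a := fun i => TT h) 0 (m := l) (hm := h.tor) rfl e2
    have := wtGe_wt.{u, 0} (p := p) (P.φ x₂)
    rwa [hw] at this
  have el1 : El p (P.φ x₁) := EE_el h hl hq _ _ (Or.inl ⟨0, rfl⟩) P
  have el2 : El p (P.φ x₂) := EE_el h hl hq _ _ (Or.inr rfl) P
  have n12 : ∀ σ : PSU n F q ≃* PSU n F q, σ (P.φ x₁) ≠ P.φ x₂ := fun σ =>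
    EE_ne h hl hq (fun _ h => h) (fun h => absurd h (by simp)) (Or.inr ⟨rfl, by simp⟩) P σ
  rcases Nat.lt_or_ge p 5 with hp5 | hp5
  · -- an element of order `p ^ 2`
    obtain ⟨z, k, hzo, hk, hmax, hzf, hzw⟩ := exists_z.{u} h hl hK hd hq hr P
    have hk2 : 2 ≤ k := by
      by_contra h1
      have h2 : k = 1 := by omega
      subst h2
      exact hmax (h9 hp5)
    have hz : z ^ p ^ k = 1 := by rw [← hzo, pow_orderOf_eq_one]
    have hz1 : z ≠ 1 := by
      intro h1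
      rw [h1, orderOf_one] at hzo
      exact (Nat.one_lt_pow (by omega) hp.out.one_lt).ne hzo
    have hzo' : orderOf (P.φ z) = p ^ k := by rw [P.orderOf_eq (Nat.Coprime.pow_left _ hq) hz, hzo]
    have ho : ∀ (x : ↥(SUs (fV h.hF K 2 1 r))) (hx : x ^ p = 1) (σ : PSU n F q ≃* PSU n F q), σ (P.φ x) ≠ P.φ z := by
      intro x hx σ h1
      have h2 : orderOf (P.φ z) ∣ p := by
        rw [← h1, MulEquiv.orderOf_eq, orderOf_dvd_iff_pow_eq_one, ← map_pow, hx, map_one]
      rw [hzo'] at h2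
      have h3 := Nat.le_of_dvd hp.out.pos h2
      have h4 : p ^ 2 ≤ p ^ k := Nat.pow_le_pow_right hp.out.pos hk2
      have h5 := hp.out.two_le
      nlinarith
    refine row_of_list hX ![P.φ x₁, P.φ x₂, P.φ z] ![2, 2, 2] ?_ ?_ ?_ (by simp [Fin.sum_univ_three])
    · intro i
      fin_cases i
      · exact el1
      · exact el2
      · exact P.el hq hz hz1
    · intro i j hij σ
      fin_cases i <;> fin_cases j <;> simp at hij
      · exact n12 σ
      · exact ho _ hx₁ σ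
      · exact ho _ hx₂ σ
    · intro i
      fin_cases i
      · exact w1
      · exact w2
      · exact hzw
  · -- an element with different entries
    have hpq : p ∣ q - 1 := by
      have h1 := (hd 2).2 dvd_rfl
      have h2 : (-(q : ℤ)) ^ 2 - 1 = ((q + 1 : ℕ) : ℤ) * ((q - 1 : ℕ) : ℤ) := by
        rw [Nat.cast_sub hq1]
        push_cast
        ring
      rw [h2, ← Nat.cast_mul, Int.natCast_dvd_natCast] at h1
      exact Nat.Coprime.dvd_of_dvd_mul_left hq h1
    have hT2 : TT h ^ 2 ∈ IsoG (fW h.hF K 2) := pow_mem (TT_iso h) 2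
    have hT2p : (TT h ^ 2) ^ p = 1 := by rw [← pow_mul, mul_comm, pow_mul, TT_pow h hl, one_pow]
    let y : ↥(SUs (fV h.hF K 2 1 r)) := mk h p hq (fun _ => TT h) (TT h ^ 2) (fun _ => TT_iso h) hT2
      (fun _ => TT_pow h hl) hT2p
    have hyp : y ^ p = 1 := mk_pow _ _ _ _ _ _ _ _ _
    have hyv : ∀ v, y.1 v = (fun i => TT h (v.1 i), (TT h (TT h v.2.1), v.2.2)) := fun _ => rfl
    have hyf : ∀ v, y.1 v = v → v.1 = 0 := by
      intro v hv
      rw [hyv] at hv
      exact funext fun i => TT_fix h hl (congrFun (congrArg (fun w : (Fin 1 → W F K 2) × (W F K 2 × (Fin r → F)) => w.1) hv) i)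
    have hy1 : y ≠ 1 := by
      intro h1
      have h2 := hyf (fun _ => one', 0) (by rw [h1]; rfl)
      exact one'_ne_zero (congrFun h2 0)
    refine row_of_list hX ![P.φ x₁, P.φ x₂, P.φ y] ![2, 2, 1] ?_ ?_ ?_ (by simp [Fin.sum_univ_three])
    · intro i
      fin_cases i
      · exact el1
      · exact el2
      · exact P.el hq (k := 1) (by rw [pow_one]; exact hyp) hy1
    · intro i j hij σ
      fin_cases i <;> fin_cases j <;> simp at hij
      · exact n12 σ
      · change σ (P.φ x₁) ≠ P.φ y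
        refine P.ne_of_fix hq hx₁ hyp (ne_of_gt (Set.ncard_lt_ncard ?_ (Set.toFinite _))) σ
        rw [Set.ssubset_iff_subset_ne]
        constructor
        · intro v hv
          refine (EE_fix h hl hq _ _ v).2 ⟨fun i _ => congrFun (hyf v hv) i, fun h1 => absurd h1 (by simp)⟩
        · intro h1
          have h2 : ((0 : Fin 1 → W F K 2), ((one' : W F K 2), (0 : Fin r → F))) ∈ {v | x₁.1 v = v} :=
            (EE_fix h hl hq _ _ _).2 ⟨fun i _ => rfl, fun h1 => absurd h1 (by simp)⟩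
          rw [← h1] at h2
          have h3 : y.1 ((0 : Fin 1 → W F K 2), ((one' : W F K 2), (0 : Fin r → F))) =
            ((0 : Fin 1 → W F K 2), ((one' : W F K 2), (0 : Fin r → F))) := h2
          rw [hyv] at h3
          have h4 := congrArg (fun w : (Fin 1 → W F K 2) × (W F K 2 × (Fin r → F)) => (w.2.1).1 0) h3
          have h5 : (l 0 : K) * ((l 0 : K) * 1) = 1 := h4
          have h6 : (l 0) ^ 2 = 1 := Units.ext (by rw [Units.val_pow_eq_pow_val, pow_two, Units.val_one]; rwa [mul_one] at h5)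
          have h7 := orderOf_dvd_of_pow_eq_one h6
          rw [hl] at h7
          have := Nat.le_of_dvd two_pos h7
          omega
      · exact not_conj_four h hl hp5 hpq hq1 hq P e2 rfl hx₂ hyp σ
    · intro i
      fin_cases i
      · exact w1
      · exact w2
      · exact wtGe_one _

end four

section main

theorem nine_dvd {F : Type} [Field F] [Fintype F] {q n : ℕ} (hF : Fintype.card F = q ^ 2) (hn : n = 4 ∨ n = 5)
    (hq1 : 1 ≤ q) (hq3 : 3 ∣ q - 1) (h27 : 27 ∣ Nat.card (PSU n F q)) : 9 ∣ q - 1 := by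
  have hdv : 27 ∣ Nat.card (GU n F q) := by
    refine (h27.trans (Subgroup.card_quotient_dvd_card _)).trans ?_
    rw [LieClassical.GUOrder.card_GU_eq hF (by omega)]
    exact Dvd.intro_left _ rfl
  obtain ⟨k, hk⟩ := hq3
  have hq : q % 3 = 1 := by omega
  have c3 : ∀ {m : ℕ}, m % 3 ≠ 0 → Nat.Coprime 27 m := fun {m} h =>
    Nat.Coprime.pow_left 3 ((Nat.Prime.coprime_iff_not_dvd Nat.prime_three).2 fun h1 => h (Nat.mod_eq_zero_of_dvd h1))
  have n2 : q ^ 2 - 1 = (q - 1) * (q + 1) := by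
    have := Nat.sq_sub_sq q 1
    rw [one_pow] at this
    rw [this, mul_comm]
  have n4 : q ^ 4 - 1 = (q - 1) * (q + 1) * (q ^ 2 + 1) := by
    have h1 := Nat.sq_sub_sq (q ^ 2) 1
    rw [one_pow, ← pow_mul] at h1
    rw [h1, n2]
    ring
  have hU : ∃ U : ℕ, Nat.Coprime 27 U ∧ Nat.card (GU n F q) = (q - 1) * (q - 1) * U := by
    rw [S0277.result hF]
    have a1 : Nat.Coprime 27 q := c3 (by omega)
    have a2 : Nat.Coprime 27 (q + 1) := c3 (by omega)
    have a3 : Nat.Coprime 27 (q ^ 3 + 1) := c3 (by simp [Nat.add_mod, Nat.pow_mod, hq])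
    have a4 : Nat.Coprime 27 (q ^ 2 + 1) := c3 (by simp [Nat.add_mod, Nat.pow_mod, hq])
    have a5 : Nat.Coprime 27 (q ^ 5 + 1) := c3 (by simp [Nat.add_mod, Nat.pow_mod, hq])
    rcases hn with rfl | rfl
    · refine ⟨q ^ 6 * ((q + 1) * (q + 1) * (q ^ 3 + 1) * ((q + 1) * (q ^ 2 + 1))), ?_, ?_⟩
      · exact (a1.pow_right 6).mul_right ((((a2.mul_right a2)).mul_right a3).mul_right (a2.mul_right a4))
      · simp only [Finset.prod_range_succ, Finset.prod_range_zero]
        norm_num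
        rw [n2, n4]
        ring
    · refine ⟨q ^ 10 * ((q + 1) * (q + 1) * (q ^ 3 + 1) * ((q + 1) * (q ^ 2 + 1)) * (q ^ 5 + 1)), ?_, ?_⟩
      · exact (a1.pow_right 10).mul_right (((((a2.mul_right a2)).mul_right a3).mul_right (a2.mul_right a4)).mul_right a5)
      · simp only [Finset.prod_range_succ, Finset.prod_range_zero]
        norm_num
        rw [n2, n4]
        ring
  obtain ⟨U, hU, hc⟩ := hU
  rw [hc] at hdv
  have h1 := hU.dvd_of_dvd_mul_right hdv
  rw [hk] at h1 ⊢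
  have h2 : 9 * 3 ∣ 9 * (k * k) := by
    have : 3 * k * (3 * k) = 9 * (k * k) := by ring
    rwa [this] at h1
  have h3 : 3 ∣ k * k := Nat.dvd_of_mul_dvd_mul_left (by norm_num) h2
  have h4 : 3 ∣ k := ((Nat.Prime.dvd_mul Nat.prime_three).1 h3).elim id id
  exact Nat.mul_dvd_mul_left 3 h4

/-- **`PSU_n(q)`, `p` odd, prime to `q (q + 1)`.** -/
theorem row_psu_other {F : Type} [Field F] [Fintype F] {q n p : ℕ} [hp : Fact p.Prime] (hp2 : p ≠ 2)
    (hF : Fintype.card F = q ^ 2) (hn : 3 ≤ n) (hpq : ¬ p ∣ q) (hpq1 : ¬ p ∣ q + 1)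
    (hX : ¬ HasNormalPComplement p (PSU n F q))
    (hnc : ∀ Q : Sylow p (PSU n F q), ¬ IsCyclic (Q : Subgroup (PSU n F q)))
    (h27 : p = 3 → 27 ∣ Nat.card (PSU n F q)) : KRow.{u, 0} p (PSU n F q) := by
  classical
  set d := orderOf (-(q : ZMod p)) with hd
  have hOrd : OrdM p q d := by
    intro m
    rw [hd, orderOf_dvd_iff_pow_eq_one, ← ZMod.intCast_zmod_eq_zero_iff_dvd, Int.cast_sub, Int.cast_pow, Int.cast_neg,
      Int.cast_natCast, Int.cast_one, sub_eq_zero]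
  have hd0 : 0 < d := by
    rw [hd, orderOf_pos_iff]
    have h0 : -(q : ZMod p) ≠ 0 := by
      rw [Ne, neg_eq_zero, ZMod.natCast_eq_zero_iff]; exact hpq
    exact isOfFinOrder_iff_pow_eq_one.2 ⟨p - 1, by have := hp.out.two_le; omega, ZMod.pow_card_sub_one_eq_one h0⟩
  have hq : p.Coprime (q + 1) := (Nat.Prime.coprime_iff_not_dvd hp.out).2 hpq1
  have hd1 : d ≠ 1 := by
    intro h1
    apply hpq1
    have h2 := (hOrd 1).2 (by rw [h1])
    rw [pow_one, ← dvd_neg] at h2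
    have h3 : -(-(q : ℤ) - 1) = (((q + 1 : ℕ) : ℤ)) := by push_cast; ring
    rw [h3, Int.natCast_dvd_natCast] at h2
    exact h2
  clear_value d
  have hq1 : 1 ≤ q := q_pos hF
  rcases Nat.lt_or_ge n (2 * d) with hlt | hge
  · obtain ⟨Q, hQ⟩ := psu_cyclic hF hn hd0 hlt hOrd hq
    exact absurd hQ (hnc Q)
  have : NeZero d := ⟨by omega⟩
  obtain ⟨K, _, _, _, hK⟩ := H477.HC.exists_L F d hd0
  have := Fintype.ofFinite K
  obtain ⟨l, h, hl⟩ := exists_reg hF hK hp.out hOrd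
  have := h.finite
  have hdiv : 2 ≤ n / d := (Nat.le_div_iff_mul_le hd0).2 hge
  obtain ⟨s, hs⟩ : ∃ s, n / d = s + 1 := ⟨n / d - 1, by omega⟩
  have hr : n % d < d := Nat.mod_lt _ hd0
  have hnd : s * d + (d + n % d) = n := by
    have h1 := Nat.div_add_mod n d
    rw [hs] at h1
    rw [← add_assoc, ← Nat.succ_mul, Nat.mul_comm]
    exact h1
  obtain ⟨b, hb⟩ := exists_basis hF ((finrank_V h s (n % d)).trans hnd) (fV_symm h.hF s (n % d)) (fV_nd h s (n % d))
  obtain ⟨P⟩ := exists_phi hF hn (fun h => by omega) b hb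
  rcases Nat.lt_or_ge s 2 with hs2 | hs2
  · have hs1 : s = 1 := by omega
    subst hs1
    rcases Nat.lt_or_ge d 3 with hd3 | hd3
    · have hd2 : d = 2 := by omega
      subst hd2
      refine row_block_four h hl hK hOrd hp2 hq1 hq hr P hX fun hp5 => ?_
      have hp3 : p = 3 := by
        have h1 := hp.out.two_le
        interval_cases p
        · exact absurd rfl hp2
        · rfl
        · exact absurd hp.out (by norm_num)
      subst hp3
      have h2 := (hOrd 2).2 dvd_rfl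
      have h3 : (-(q : ℤ)) ^ 2 - 1 = ((q - 1 : ℕ) : ℤ) * ((q + 1 : ℕ) : ℤ) := by
        rw [Nat.cast_sub hq1]
        push_cast
        ring
      rw [h3, ← Nat.cast_mul, Int.natCast_dvd_natCast] at h2
      have h4 : 3 ∣ q - 1 := Nat.Coprime.dvd_of_dvd_mul_right hq h2
      have h5 := nine_dvd hF (by omega) hq1 h4 (h27 rfl)
      rw [h3, ← Nat.cast_mul, Int.natCast_dvd_natCast]
      exact Dvd.dvd.mul_right h5 _
    · exact row_block_two h hl hK hOrd hp2 hq hd3 hr P hX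
  · exact row_block_three h hl hK hOrd hp2 hq (by omega) P hs2 hX

end main

end Cfsg.Agent.H166.K6
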