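import Cfsg.Agent.H166.K6.PsuA
import Cfsg.Agent.H166.K6.PsuC
import Cfsg.Agent.H436.Names
import Cfsg.Agent.H626.ExtB.Perm
import Cfsg.Agent.H664.R1.U3Iso
import Cfsg.Agent.H668.K6.Ext

/-!
# S4876: the rows `PSU_3(q)`, `p ∣ q + 1`, and all rows `PSU_n(q)` in cross characteristic (helper166)

* `p = 3`, `9 ∣ q + 1`: classes of `3`-elements, told apart by automorphisms with inner `m`-th power, `3 ∤ m`;
* `p ≥ 5`: the Steinberg character and criterion X, `7 ≤ k(B₀(PSU_3(q)))` by classes.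
-/

set_option autoImplicit false
set_option linter.unusedSectionVars false

open Cfsg Matrix Cfsg.Agent.LieClassical.HermBasic Cfsg.Agent.LieClassical.HermSiegel
  Cfsg.Agent.ClassicalGeometry.PSUAutCount Cfsg.Agent.LieClassical.SUBasic Cfsg.Agent.H61.K6
open Cfsg.Agent.ClassicalGeometry.UnitAutBasic (pr pr_surjective pr_eq_pr_iff exists_scalar_of_pr_eq)
open scoped Pointwise

namespace Cfsg.Agent.H166.K6

universe u v

section semi

variable {F : Type} [Field F] {q n : ℕ}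

namespace Semi

/-- composition -/
def trans {g g' g'' : SU n F q} (S : Semi g g') (S' : Semi g' g'') : Semi g g'' where
  Φ := S.Φ.trans S'.Φ
  ρ := S.ρ.trans S'.ρ
  c := S'.c * S'.ρ S.c
  c0 := mul_ne_zero S'.c0 ((map_ne_zero S'.ρ).2 S.c0)
  cq := by rw [mul_pow, S'.cq, one_mul, ← map_pow, S.cq, map_one]
  add v w := by
    change S'.Φ (S.Φ (v + w)) = S'.Φ (S.Φ v) + S'.Φ (S.Φ w)
    rw [S.add, S'.add]
  smul a v := by
    change S'.Φ (S.Φ (a • v)) = S'.ρ (S.ρ a) • S'.Φ (S.Φ v)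
    rw [S.smul, S'.smul]
  eq v := by
    change act g'' (S'.Φ (S.Φ v)) = (S'.c * S'.ρ S.c) • S'.Φ (S.Φ (act g v))
    rw [S'.eq, S.eq, S'.smul, smul_smul]

theorem trans_ρ {g g' g'' : SU n F q} (S : Semi g g') (S' : Semi g' g'') : (S.trans S').ρ = S.ρ.trans S'.ρ := rfl

/-- conjugation -/
def conj (h g : SU n F q) : Semi g (h * g * h⁻¹) where
  Φ :=
    { toFun := fun v => act h v
      invFun := fun v => act h⁻¹ v
      left_inv := fun v => by
        change act h⁻¹ (act h v) = v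
        rw [← act_mul, inv_mul_cancel, act_one]
      right_inv := fun v => by
        change act h (act h⁻¹ v) = v
        rw [← act_mul, mul_inv_cancel, act_one] }
  ρ := RingEquiv.refl F
  c := 1
  c0 := one_ne_zero
  cq := one_pow _
  add v w := act_add h v w
  smul a v := act_smul h a v
  eq v := by
    change act (h * g * h⁻¹) (act h v) = (1 : F) • act h (act g v)
    rw [one_smul, ← act_mul, inv_mul_cancel_right, act_mul]

end Semi

variable [Fintype F]

theorem semi_of_pr (hF : Fintype.card F = q ^ 2) (hn : 3 ≤ n) {g g' : SU n F q} (h : pr n F q g = pr n F q g') :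
    ∃ S : Semi g g', S.ρ = RingEquiv.refl F := by
  obtain ⟨c, hc, hcx⟩ := exists_scalar_of_pr_eq hF hn h
  refine ⟨⟨Equiv.refl _, RingEquiv.refl F, c, ?_, ?_, fun _ _ => rfl, fun _ _ => rfl, hcx⟩, rfl⟩
  · rintro rfl
    rw [zero_mul] at hc
    exact zero_ne_one hc
  · rw [pow_succ', hc]

/-- conjugate elements -/
theorem semi_of_conj (hF : Fintype.card F = q ^ 2) (hn : 3 ≤ n) {g g' : SU n F q} {x : PSU n F q}
    (h : x * pr n F q g * x⁻¹ = pr n F q g') : ∃ S : Semi g g', S.ρ = RingEquiv.refl F := by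
  obtain ⟨h0, rfl⟩ := pr_surjective x
  rw [← map_inv, ← map_mul, ← map_mul] at h
  obtain ⟨S, hS⟩ := semi_of_pr hF hn h
  exact ⟨(Semi.conj h0 g).trans S, by rw [Semi.trans_ρ, hS]; rfl⟩

/-- one field automorphism for all elements -/
theorem exists_semi_all (hF : Fintype.card F = q ^ 2) (hn : 3 ≤ n) (h32 : ¬ (n = 3 ∧ q = 2))
    (σ : MulAut (PSU n F q)) : ∃ ρ : F ≃+* F, ∀ g g' : SU n F q, σ (pr n F q g) = pr n F q g' →
      ∃ S : Semi g g', S.ρ = ρ := by
  obtain ⟨A, ρ, hA⟩ := ClassicalGeometry.PSUAutMain.exists_toAut hF hn h32 σ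
  refine ⟨ρ, fun g g' h => ?_⟩
  have h1 : pr n F q (semiConj A ρ g) = pr n F q g' := by
    rw [← toAut_pr, ← hA]
    exact h
  obtain ⟨S, hS⟩ := semi_of_pr hF hn h1
  let Φ : (Fin n → F) ≃ (Fin n → F) :=
    { toFun := fun v => gm A *ᵥ fun i => ρ (v i)
      invFun := fun v => fun i => ρ.symm ((gm A⁻¹ *ᵥ v) i)
      left_inv := fun v => by
        funext i
        show ρ.symm ((gm A⁻¹ *ᵥ (gm A *ᵥ fun i => ρ (v i))) i) = v i
        rw [gm_inv_mulVec, ρ.symm_apply_apply]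
      right_inv := fun v => by
        show gm A *ᵥ (fun i => ρ (ρ.symm ((gm A⁻¹ *ᵥ v) i))) = v
        have : (fun i => ρ (ρ.symm ((gm A⁻¹ *ᵥ v) i))) = gm A⁻¹ *ᵥ v := by
          funext i
          rw [ρ.apply_symm_apply]
        rw [this, gm_mulVec_inv] }
  have hΦ : ∀ v, Φ v = gm A *ᵥ fun i => ρ (v i) := fun _ => rfl
  let S0 : Semi g (semiConj A ρ g) := ⟨Φ, ρ, 1, one_ne_zero, one_pow _, fun v w => by
    rw [hΦ, hΦ, hΦ, ← mulVec_add]
    congr 1
    funext i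
    exact map_add ρ _ _, fun a v => by
    rw [hΦ, hΦ, ← mulVec_smul]
    congr 1
    funext i
    exact map_mul ρ _ _, fun v => by
    rw [one_smul, hΦ, act_semiConj]
    rfl⟩
  exact ⟨S0.trans S, by rw [Semi.trans_ρ, hS]; rfl⟩

theorem semi_iter (hF : Fintype.card F = q ^ 2) (hn : 3 ≤ n) {σ : MulAut (PSU n F q)} {ρ : RingAut F}
    (h : ∀ g g' : SU n F q, σ (pr n F q g) = pr n F q g' → ∃ S : Semi g g', S.ρ = ρ) (k : ℕ) :
    ∀ g g' : SU n F q, (σ ^ k) (pr n F q g) = pr n F q g' → ∃ S : Semi g g', S.ρ = ρ ^ k := by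
  induction k with
  | zero =>
    intro g g' hg
    obtain ⟨S, hS⟩ := semi_of_pr hF hn (show pr n F q g = pr n F q g' from hg)
    exact ⟨S, hS⟩
  | succ k ih =>
    intro g g' hg
    obtain ⟨g1, hg1⟩ := pr_surjective ((σ ^ k) (pr n F q g))
    obtain ⟨S, hS⟩ := ih g g1 hg1.symm
    rw [pow_succ', MulAut.mul_apply, ← hg1] at hg
    obtain ⟨S', hS'⟩ := h g1 g' hg
    exact ⟨S.trans S', by rw [Semi.trans_ρ, hS, hS', pow_succ']; rfl⟩

theorem Semi.exists_eig {a b : Fin n → F} {hd : ∏ i, a i = 1} {ha : ∀ i, a i ^ (q + 1) = 1}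
    {hd' : ∏ i, b i = 1} {hb : ∀ i, b i ^ (q + 1) = 1} (S : Semi (suDiag q a hd ha) (suDiag q b hd' hb)) (i : Fin n) :
    ∃ j, b j = S.c * S.ρ (a i) := by
  classical
  have h0 : S.Φ (Pi.single i 1) ≠ 0 := by
    intro h1
    have h2 := congrFun (S.Φ.injective (h1.trans S.map_zero.symm)) i
    rw [Pi.single_eq_same] at h2
    exact one_ne_zero h2
  obtain ⟨j, hj⟩ := Function.ne_iff.1 h0
  refine ⟨j, ?_⟩
  have h1 : act (suDiag q a hd ha) (Pi.single i 1) = a i • Pi.single i (1 : F) := by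
    rw [act_def, mat_suDiag]
    funext k
    rw [mulVec_diagonal, Pi.smul_apply, smul_eq_mul]
    by_cases hk : k = i
    · rw [hk]
    · rw [Pi.single_eq_of_ne hk, mul_zero, mul_zero]
  have h2 := S.eq (Pi.single i 1)
  rw [h1, S.smul, smul_smul] at h2
  have h3 := congrFun h2 j
  rw [act_def, mat_suDiag, mulVec_diagonal, Pi.smul_apply, smul_eq_mul] at h3
  exact mul_right_cancel₀ hj h3

end semi

section crit

variable {p : ℕ}

/-- Brauer's formula for a family -/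
theorem card_ge_of_family {G : Type*} [Group G] [Finite G] [hp : Fact p.Prime] {M : Ideal AlgInt} (hM : IsPModular p M)
    {k : ℕ} (y : Fin k → G) (hy : ∀ i, ∃ e : ℕ, orderOf (y i) = p ^ e) (hne : ∀ i j, i < j → ¬ IsConj (y i) (y j))
    (w : Fin k → ℕ) (hw : ∀ i, w i ≤ blockRank p (principalBlock M ↥(Subgroup.centralizer ({y i} : Set G)))) :
    ∑ i, w i ≤ Nat.card (principalBlock M G) := by
  classical
  have hne' : ∀ i j, IsConj (y i) (y j) → i = j := by
    intro i j h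
    by_contra hij
    rcases lt_or_gt_of_ne hij with h1 | h1
    · exact hne i j h1 h
    · exact hne j i h1 h.symm
  have hinj : Function.Injective y := fun i j h => hne' i j (h ▸ IsConj.refl _)
  refine le_trans ?_ (H634.TwoA.sum_rank_le hM (Finset.univ.image y) ?_ ?_)
  · rw [Finset.sum_image fun a _ b _ h => hinj h]
    exact Finset.sum_le_sum fun i _ => hw i
  · intro x hx
    obtain ⟨i, -, rfl⟩ := Finset.mem_image.1 hx
    exact hy i
  · intro x hx x' hx' h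
    obtain ⟨i, -, rfl⟩ := Finset.mem_image.1 hx
    obtain ⟨j, -, rfl⟩ := Finset.mem_image.1 hx'
    rw [hne' i j h]

/-- criterion W with automorphisms which have an inner `m`-th power, `p ∤ m` -/
theorem row_of_inner {X : Type v} [Group X] [Finite X] (hX : ¬ HasNormalPComplement p X) {k : ℕ}
    (x : Fin k → X) (w : Fin k → ℕ) (hel : ∀ i, El p (x i))
    (hne : ∀ i j, i < j → ∀ (σ : MulAut X) (m : ℕ) (h : X), ¬ p ∣ m → σ ^ m = MulAut.conj h → σ (x i) ≠ x j)
    (hw : ∀ i, WtGe.{u, v} p (x i) (w i)) (hn : 5 ≤ ∑ i, w i) : KRow.{u, v} p X := by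
  intro M G _ _ K hS
  have : Fact p.Prime := ⟨hS.prime⟩
  have hK := hS.normal
  obtain ⟨f⟩ := hS.iso
  have h1 := card_ge_of_family hS.modular (fun i : Fin (k + 1) => ((f ((Fin.cons 1 x : Fin (k + 1) → X) i) : K) : G))
    (fun i => by
      rw [Subgroup.orderOf_coe, MulEquiv.orderOf_eq]
      refine Fin.cases ?_ (fun i => ?_) i
      · exact ⟨0, by rw [Fin.cons_zero, orderOf_one, pow_zero]⟩
      · rw [Fin.cons_succ]
        exact (hel i).1) ?_ (Fin.cons 2 w) ?_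
  · rw [Fin.sum_univ_succ, Fin.cons_zero] at h1
    simp only [Fin.cons_succ] at h1
    omega
  · intro i j
    refine Fin.cases ?_ (fun i => ?_) i
    · refine Fin.cases (fun h => absurd h (lt_irrefl _)) (fun j _ h => ?_) j
      rw [Fin.cons_zero, Fin.cons_succ, map_one, Subgroup.coe_one] at h
      have h2 := isConj_one_right.1 h
      have h3 : (f (x j) : K) = 1 := Subtype.ext h2
      exact (hel j).2 ((map_eq_one_iff f f.injective).1 h3)
    · refine Fin.cases (fun h => absurd h (by simp)) (fun j hij h => ?_) j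
      rw [Fin.cons_succ, Fin.cons_succ] at h
      obtain ⟨g, hg⟩ := isConj_iff.1 h
      let σ : MulAut X := MulAut.congr f.symm (MulAut.conjNormal g : MulAut K)
      have hσ : ∀ (t : G) (z : X), ((f ((MulAut.congr f.symm (MulAut.conjNormal t : MulAut K)) z) : K) : G) =
          t * ((f z : K) : G) * t⁻¹ := by
        intro t z
        change ((f (f.symm ((MulAut.conjNormal t : MulAut K) (f z))) : K) : G) = _
        rw [f.apply_symm_apply, MulAut.conjNormal_apply]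
      have h4 : σ ^ K.index = MulAut.congr f.symm (MulAut.conjNormal (g ^ K.index) : MulAut K) := by
        rw [map_pow, map_pow]
      have h5 : g ^ K.index ∈ K := Subgroup.pow_index_mem K g
      refine hne i j (Fin.succ_lt_succ_iff.1 hij) σ K.index (f.symm ⟨g ^ K.index, h5⟩) hS.ndvd ?_ ?_
      · rw [h4]
        apply MulEquiv.ext
        intro z
        apply f.injective
        apply Subtype.ext
        rw [hσ, MulAut.conj_apply, map_mul, map_mul, map_inv, f.apply_symm_apply]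
        rfl
      · apply f.injective
        apply Subtype.ext
        rw [hσ]
        exact hg
  · refine Fin.cases ?_ (fun i => ?_)
    · exact wtGe_one_two hX M G K f hS
    · exact hw i M G K f hS

end crit

section three

variable {F : Type} [Field F] [Fintype F] {q : ℕ}

/-- an element of given order and norm one -/
theorem exists_root (hF : Fintype.card F = q ^ 2) {N : ℕ} (hN : N ∣ q + 1) :
    ∃ η : F, IsPrimitiveRoot η N ∧ η ^ (q + 1) = 1 := by
  obtain ⟨g, hg⟩ := IsCyclic.exists_ofOrder_eq_natCard (α := Fˣ)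
  have h1 : N ∣ Nat.card Fˣ := by
    rw [card_units_eq hF]
    exact hN.mul_right _
  obtain ⟨c, hc⟩ := h1
  have hpos : 0 < Nat.card Fˣ := Nat.card_pos
  have hc0 : c ≠ 0 := by rintro rfl; rw [mul_zero] at hc; omega
  have ho : orderOf (g ^ c) = N := by
    rw [orderOf_pow_of_dvd hc0 (by rw [hg, hc]; exact Dvd.intro_left N rfl), hg, hc,
      Nat.mul_div_cancel _ (Nat.pos_of_ne_zero hc0)]
  have h2 : IsPrimitiveRoot (g ^ c) N := by rw [← ho]; exact IsPrimitiveRoot.orderOf _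
  refine ⟨((g ^ c : Fˣ) : F), h2.map_of_injective (f := Units.coeHom F) Units.val_injective, ?_⟩
  obtain ⟨t, ht⟩ := hN
  rw [ht, pow_mul, ← Units.val_pow_eq_pow_val, h2.pow_eq_one, Units.val_one, one_pow]

theorem zmod9 (j : ZMod 9) (m : ℕ) (hm : ¬ 3 ∣ m) (h : j ^ m = 1 ∨ j ^ m = -1) : j = 1 ∨ j = -1 := by
  have key : ∀ j : ZMod 9, j ^ 6 = 1 ∨ j ^ 2 = 0 := by decide
  rcases key j with h1 | h1
  · have h2 : j ^ m = j ^ (m % 6) := by
      conv_lhs => rw [← Nat.div_add_mod m 6, pow_add, pow_mul, h1, one_pow, one_mul]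
    rw [h2] at h
    have h3 : m % 6 < 6 := Nat.mod_lt _ (by norm_num)
    have h4 : m % 6 = 1 ∨ m % 6 = 2 ∨ m % 6 = 4 ∨ m % 6 = 5 := by omega
    rcases h4 with h4 | h4 | h4 | h4
    · rw [h4] at h
      clear h1 h2
      revert j; decide
    · rw [h4] at h
      clear h1 h2
      revert j; decide
    · rw [h4] at h
      clear h1 h2
      revert j; decide
    · rw [h4] at h
      clear h1 h2
      revert j; decide
  · rcases Nat.lt_or_ge m 2 with h2 | h2
    · have h3 : m = 1 := by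
        rcases Nat.lt_or_ge m 1 with h3 | h3
        · exact absurd ⟨0, by omega⟩ hm
        · omega
      rwa [h3, pow_one] at h
    · obtain ⟨t, rfl⟩ : ∃ t, m = 2 + t := ⟨m - 2, by omega⟩
      rw [pow_add, h1, zero_mul] at h
      rcases h with h | h
      · exact absurd h (by decide)
      · exact absurd h (by decide)

theorem pow_eq_iff9 {η : F} (hη : IsPrimitiveRoot η 9) (a b : ℕ) : η ^ a = η ^ b ↔ (a : ZMod 9) = b := by
  have h : ∀ a : ℕ, η ^ a = η ^ (a % 9) := fun a => by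
    conv_lhs => rw [← Nat.div_add_mod a 9, pow_add, pow_mul, hη.pow_eq_one, one_pow, one_mul]
  rw [ZMod.natCast_eq_natCast_iff, Nat.ModEq, h a, h b]
  exact ⟨fun h => hη.pow_inj (Nat.mod_lt _ (by norm_num)) (Nat.mod_lt _ (by norm_num)) h, fun h => by rw [h]⟩

/-- `diag(1, u, u⁻¹)` -/
def xd (u : F) (hu0 : u ≠ 0) (hu : u ^ (q + 1) = 1) : SU 3 F q :=
  suDiag q ![1, u, u⁻¹] (by rw [Fin.prod_univ_three]; simp [mul_inv_cancel₀ hu0]) (by
    intro i
    fin_cases i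
    · exact one_pow _
    · exact hu
    · change u⁻¹ ^ (q + 1) = 1
      rw [inv_pow, hu, inv_one])

theorem three_eig {u v : F} {hu0 : u ≠ 0} {hu : u ^ (q + 1) = 1} {hv0 : v ≠ 0} {hv : v ^ (q + 1) = 1}
    (S : Semi (xd (q := q) u hu0 hu) (xd v hv0 hv)) (hu2 : u ^ 2 ≠ 1) (hv3 : v ^ 3 ≠ 1) : S.ρ u = v ∨ S.ρ u = v⁻¹ := by
  have h1 : ∀ i : Fin 3, ∃ j, (![1, v, v⁻¹] : Fin 3 → F) j = S.c * S.ρ ((![1, u, u⁻¹] : Fin 3 → F) i) := fun i =>
    Semi.exists_eig S i
  choose f hf using h1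
  have hu1 : u ≠ 1 := by rintro rfl; exact hu2 (one_pow _)
  have hinj : Function.Injective (![1, u, u⁻¹] : Fin 3 → F) := by
    have e1 : (1 : F) ≠ u⁻¹ := fun h => hu1 (by rw [← inv_inv u, ← h, inv_one])
    have e2 : u ≠ u⁻¹ := fun h => hu2 (by rw [pow_two]; nth_rewrite 2 [h]; exact mul_inv_cancel₀ hu0)
    intro i j hij
    fin_cases i <;> fin_cases j
    · rfl
    · exact absurd hij.symm hu1
    · exact absurd hij e1
    · exact absurd hij hu1
    · rfl
    · exact absurd hij e2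
    · exact absurd hij.symm e1
    · exact absurd hij.symm e2
    · rfl
  have hfi : Function.Injective f := by
    intro i j hij
    apply hinj
    have h2 := (hf i).symm.trans ((congrArg _ hij).trans (hf j))
    exact S.ρ.injective (mul_left_cancel₀ S.c0 h2)
  have hfb : Function.Bijective f := Finite.injective_iff_bijective.1 hfi
  have h2 : ∏ i, (![1, v, v⁻¹] : Fin 3 → F) (f i) = ∏ i, (![1, v, v⁻¹] : Fin 3 → F) i :=
    Function.Bijective.prod_comp hfb _
  simp only [hf] at h2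
  rw [Fin.prod_univ_three, Fin.prod_univ_three] at h2
  have h3 : S.c ^ 3 = 1 := by
    have e1 : S.c * S.ρ 1 * (S.c * S.ρ u) * (S.c * S.ρ u⁻¹) = 1 * v * v⁻¹ := h2
    rw [map_one, one_mul, mul_inv_cancel₀ hv0, map_inv₀] at e1
    have e2 : S.ρ u ≠ 0 := (map_ne_zero _).2 hu0
    calc S.c ^ 3 = S.c * 1 * (S.c * S.ρ u) * (S.c * (S.ρ u)⁻¹) := by field_simp
      _ = 1 := e1
  have hc : S.c = 1 := by
    have h4 := hf 0
    have h5 : (![1, v, v⁻¹] : Fin 3 → F) (f 0) = S.c * S.ρ 1 := h4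
    rw [map_one, mul_one] at h5
    generalize f 0 = j at h5
    fin_cases j
    · exact h5.symm
    · exact absurd (show v ^ 3 = 1 by rw [show v = S.c from h5]; exact h3) hv3
    · have h6 : v⁻¹ = S.c := h5
      exact absurd (show v ^ 3 = 1 by rw [← inv_inv v, h6, inv_pow, h3, inv_one]) hv3
  have h4 := hf 1
  have h5 : (![1, v, v⁻¹] : Fin 3 → F) (f 1) = S.c * S.ρ u := h4
  rw [hc, one_mul] at h5
  generalize f 1 = j at h5
  fin_cases j
  · have h6 : (1 : F) = S.ρ u := h5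
    exact absurd ((map_eq_one_iff S.ρ S.ρ.injective).1 h6.symm) hu1
  · exact Or.inl h5.symm
  · exact Or.inr h5.symm

/-- the field automorphism on the elements of order `9` -/
theorem rho_eta (hF : Fintype.card F = q ^ 2) (h32 : ¬ (3 = 3 ∧ q = 2)) {η : F} (hη : IsPrimitiveRoot η 9)
    (hηq : η ^ (q + 1) = 1) (σ : MulAut (PSU 3 F q)) {m : ℕ} {x : PSU 3 F q} (hm : ¬ 3 ∣ m) (hσ : σ ^ m = MulAut.conj x) :
    ∃ ρ : F ≃+* F, (ρ η = η ∨ ρ η = η⁻¹) ∧ ∀ g g' : SU 3 F q, σ (pr 3 F q g) = pr 3 F q g' →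
      ∃ S : Semi g g', S.ρ = ρ := by
  obtain ⟨ρ, hρ⟩ := exists_semi_all hF le_rfl h32 σ
  refine ⟨ρ, ?_, hρ⟩
  have hη0 : η ≠ 0 := hη.ne_zero (by norm_num)
  have hk : ∀ k : ℕ, 0 < k → k < 9 → η ^ k ≠ 1 := fun k h1 h2 => hη.pow_ne_one_of_pos_of_lt h1.ne' h2
  obtain ⟨g', hg'⟩ := pr_surjective ((σ ^ m) (pr 3 F q (xd η hη0 hηq)))
  obtain ⟨S, hS⟩ := semi_iter (ρ := ρ) hF le_rfl hρ m _ _ hg'.symm
  have h1 : x⁻¹ * pr 3 F q g' * x⁻¹⁻¹ = pr 3 F q (xd η hη0 hηq) := by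
    rw [hg', hσ, MulAut.conj_apply]
    group
  obtain ⟨S', hS'⟩ := semi_of_conj hF le_rfl h1
  have h2 := three_eig (S.trans S') (hk 2 (by norm_num) (by norm_num)) (hk 3 (by norm_num) (by norm_num))
  have h3 : ((S.trans S').ρ) η = ((ρ : RingAut F) ^ m) η := by
    rw [Semi.trans_ρ, hS, hS']
    rfl
  rw [h3] at h2
  obtain ⟨j, -, hj⟩ := hη.eq_pow_of_pow_eq_one (ξ := ρ η) (by rw [← map_pow, hη.pow_eq_one, map_one])
  have h4 : ∀ k : ℕ, ((ρ : RingAut F) ^ k) η = η ^ (j ^ k) := by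
    intro k
    induction k with
    | zero => rw [pow_zero, pow_zero, pow_one]; rfl
    | succ k ih =>
      rw [pow_succ', RingAut.mul_apply, ih]
      rw [map_pow, ← hj, ← pow_mul, pow_succ']
  rw [h4] at h2
  have h8 : η⁻¹ = η ^ 8 := by
    apply inv_eq_of_mul_eq_one_right
    rw [← pow_succ']
    exact hη.pow_eq_one
  have h5 : (j : ZMod 9) ^ m = 1 ∨ (j : ZMod 9) ^ m = -1 := by
    rcases h2 with h2 | h2
    · left
      have h6 := (pow_eq_iff9 hη (j ^ m) 1).1 (by rw [pow_one]; exact h2)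
      rw [← Nat.cast_pow, h6, Nat.cast_one]
    · right
      rw [h8, pow_eq_iff9 hη] at h2
      rw [← Nat.cast_pow, h2]
      rfl
  rcases zmod9 _ m hm h5 with h6 | h6
  · left
    rw [← hj]
    exact ((pow_eq_iff9 hη j 1).2 (by rw [h6, Nat.cast_one])).trans (pow_one η)
  · right
    rw [← hj, h8, pow_eq_iff9 hη, h6]
    rfl

/-- `diag(u, u, u⁻²)` -/
def yd (u : F) (hu0 : u ≠ 0) (hu : u ^ (q + 1) = 1) : SU 3 F q :=
  suDiag q ![u, u, (u ^ 2)⁻¹] (by
    rw [Fin.prod_univ_three]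
    change u * u * (u ^ 2)⁻¹ = 1
    rw [← pow_two, mul_inv_cancel₀ (pow_ne_zero 2 hu0)]) (by
    intro i
    fin_cases i
    · exact hu
    · exact hu
    · change (u ^ 2)⁻¹ ^ (q + 1) = 1
      rw [inv_pow, ← pow_mul, mul_comm, pow_mul, hu, one_pow, inv_one])

theorem xd_pow {u : F} (hu0 : u ≠ 0) (hu : u ^ (q + 1) = 1) {N : ℕ} (hN : u ^ N = 1) : xd u hu0 hu ^ N = 1 := by
  refine suDiag_pow _ _ _ fun i => ?_
  fin_cases i
  · exact one_pow _
  · exact hN
  · change u⁻¹ ^ N = 1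
    rw [inv_pow, hN, inv_one]

theorem yd_pow {u : F} (hu0 : u ≠ 0) (hu : u ^ (q + 1) = 1) {N : ℕ} (hN : u ^ N = 1) : yd u hu0 hu ^ N = 1 := by
  refine suDiag_pow _ _ _ fun i => ?_
  fin_cases i
  · exact hN
  · exact hN
  · change (u ^ 2)⁻¹ ^ N = 1
    rw [inv_pow, ← pow_mul, mul_comm, pow_mul, hN, one_pow, inv_one]

theorem xd_ne (hF : Fintype.card F = q ^ 2) {u : F} (hu0 : u ≠ 0) (hu : u ^ (q + 1) = 1) (hu1 : u ≠ 1) :
    pr 3 F q (xd u hu0 hu) ≠ 1 := dg_ne_one hF le_rfl (i := 0) (j := 1) (fun h => hu1 h.symm)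

theorem yd_ne (hF : Fintype.card F = q ^ 2) {u : F} (hu0 : u ≠ 0) (hu : u ^ (q + 1) = 1) (hu3 : u ^ 3 ≠ 1) :
    pr 3 F q (yd u hu0 hu) ≠ 1 := dg_ne_one hF le_rfl (i := 0) (j := 2) (by
  change u ≠ (u ^ 2)⁻¹
  intro h
  apply hu3
  rw [pow_succ]
  nth_rewrite 2 [h]
  exact mul_inv_cancel₀ (pow_ne_zero 2 hu0))

/-- the number of equal entries tells the two kinds apart -/
theorem yd_xd (hF : Fintype.card F = q ^ 2) (h32 : ¬ (3 = 3 ∧ q = 2)) {u v : F} {hu0 : u ≠ 0} {hu : u ^ (q + 1) = 1}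
    {hv0 : v ≠ 0} {hv : v ^ (q + 1) = 1} (hu3 : u ^ 3 ≠ 1) (hv2 : v ^ 2 ≠ 1) (σ : PSU 3 F q ≃* PSU 3 F q) :
    σ (pr 3 F q (yd u hu0 hu)) ≠ pr 3 F q (xd v hv0 hv) := by
  classical
  intro h
  have h1 := cnt_eq hF le_rfl h32 σ h
  have hv1 : v ≠ 1 := by rintro rfl; exact hv2 (one_pow _)
  have e1 : (1 : F) ≠ v⁻¹ := fun h => hv1 (by rw [← inv_inv v, ← h, inv_one])
  have e2 : v ≠ v⁻¹ := fun h => hv2 (by rw [pow_two]; nth_rewrite 2 [h]; exact mul_inv_cancel₀ hv0)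
  have e3 : u ≠ (u ^ 2)⁻¹ := by
    intro h
    apply hu3
    rw [pow_succ]
    nth_rewrite 2 [h]
    exact mul_inv_cancel₀ (pow_ne_zero 2 hu0)
  have c1 : cnt (![u, u, (u ^ 2)⁻¹] : Fin 3 → F) = 5 := by
    unfold cnt
    simp only [Fin.sum_univ_three, Matrix.cons_val_zero, Matrix.cons_val_one, Matrix.cons_val, if_true, e3, e3.symm,
      if_false]
    norm_num
  have c2 : cnt (![1, v, v⁻¹] : Fin 3 → F) = 3 := by
    unfold cnt
    simp only [Fin.sum_univ_three, Matrix.cons_val_zero, Matrix.cons_val_one, Matrix.cons_val, if_true, hv1, hv1.symm, e1,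
      e1.symm, e2, e2.symm, if_false]
    norm_num
  rw [c1, c2] at h1
  omega

theorem el_nine {X : Type*} [Group X] {x : X} (h : x ^ 9 = 1) (h1 : x ≠ 1) : El 3 x := by
  refine ⟨?_, h1⟩
  obtain ⟨t, -, ht⟩ := (Nat.dvd_prime_pow Nat.prime_three).1 (show orderOf x ∣ 3 ^ 2 from orderOf_dvd_of_pow_eq_one h)
  exact ⟨t, ht⟩

/-- **Row** `PSU_3(q)`, `p = 3`, `9 ∣ q + 1`. -/
theorem row_psu_three_three (hF : Fintype.card F = q ^ 2) (h9 : 9 ∣ q + 1) : KRow.{u, 0} 3 (PSU 3 F q) := by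
  have h32 : ¬ (3 = 3 ∧ q = 2) := by omega
  have hfin : Finite (SU 3 F q) := Finite.of_injective (mat : SU 3 F q → _) mat_injective
  obtain ⟨η, hη, hηq⟩ := exists_root hF h9
  have hη0 : η ≠ 0 := hη.ne_zero (by norm_num)
  have hk : ∀ k : ℕ, 0 < k → k < 9 → η ^ k ≠ 1 := fun k h1 h2 => hη.pow_ne_one_of_pos_of_lt h1.ne' h2
  have h3 : η ^ 3 ≠ 1 := hk 3 (by norm_num) (by norm_num)
  have hw3 : (η ^ 3) ^ 3 = 1 := by rw [← pow_mul]; exact hη.pow_eq_one
  have hwq : (η ^ 3) ^ (q + 1) = 1 := by rw [← pow_mul, mul_comm, pow_mul, hηq, one_pow]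
  have hX := not_compl_psu (p := 3) (by norm_num) hF le_rfl h3 hw3 hwq
  -- the powers
  have hp0 : ∀ k, η ^ k ≠ 0 := fun k => pow_ne_zero k hη0
  have hpq : ∀ k, (η ^ k) ^ (q + 1) = 1 := fun k => by rw [← pow_mul, mul_comm, pow_mul, hηq, one_pow]
  have hp9 : ∀ k, (η ^ k) ^ 9 = 1 := fun k => by rw [← pow_mul, mul_comm, pow_mul, hη.pow_eq_one, one_pow]
  have hd : ∀ a b : ℕ, (a : ZMod 9) ≠ b → η ^ a ≠ η ^ b := fun a b h1 h2 => h1 ((pow_eq_iff9 hη a b).1 h2)
  have h8 : ∀ k, (η ^ k)⁻¹ = η ^ (8 * k) := by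
    intro k
    apply inv_eq_of_mul_eq_one_right
    rw [← pow_add, show k + 8 * k = 9 * k by ring, pow_mul, hη.pow_eq_one, one_pow]
  have key : ∀ (a b : ℕ), (a : ZMod 9) ≠ b → (a : ZMod 9) ≠ (8 * b : ℕ) → ((8 * a : ℕ) : ZMod 9) ≠ b →
      ((8 * a : ℕ) : ZMod 9) ≠ (8 * b : ℕ) → ((2 * a : ℕ) : ZMod 9) ≠ 0 → ((3 * b : ℕ) : ZMod 9) ≠ 0 →
      ∀ (σ : MulAut (PSU 3 F q)) (m : ℕ) (h : PSU 3 F q), ¬ 3 ∣ m → σ ^ m = MulAut.conj h →
        σ (pr 3 F q (xd (η ^ a) (hp0 a) (hpq a))) ≠ pr 3 F q (xd (η ^ b) (hp0 b) (hpq b)) := by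
    intro a b n1 n2 n3 n4 n5 n6 σ m x hm hσ hc
    obtain ⟨ρ, hρ, hS⟩ := rho_eta hF h32 hη hηq σ hm hσ
    obtain ⟨S, hSρ⟩ := hS _ _ hc
    have h1 := three_eig S (by
      rw [← pow_mul, mul_comm]
      intro h2
      exact n5 ((pow_eq_iff9 hη _ 0).1 (by rw [h2, pow_zero]) |>.trans Nat.cast_zero)) (by
      rw [← pow_mul, mul_comm]
      intro h2
      exact n6 ((pow_eq_iff9 hη _ 0).1 (by rw [h2, pow_zero]) |>.trans Nat.cast_zero))
    rw [hSρ, map_pow, h8] at h1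
    rcases hρ with hρ | hρ
    · rw [hρ] at h1
      exact h1.elim (hd _ _ n1) (hd _ _ n2)
    · rw [hρ, inv_pow, h8] at h1
      exact h1.elim (hd _ _ n3) (hd _ _ n4)
  refine row_of_inner hX ![pr 3 F q (yd η hη0 hηq), pr 3 F q (xd (η ^ 1) (hp0 1) (hpq 1)),
    pr 3 F q (xd (η ^ 2) (hp0 2) (hpq 2)), pr 3 F q (xd (η ^ 4) (hp0 4) (hpq 4))] ![2, 1, 1, 1] ?_ ?_ ?_
    (by simp [Fin.sum_univ_four])
  · have hx : ∀ k : ℕ, (k : ZMod 9) ≠ 0 → El 3 (pr 3 F q (xd (η ^ k) (hp0 k) (hpq k))) := fun k hk0 =>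
      el_nine (by rw [← map_pow, xd_pow _ _ (hp9 k), map_one]) (xd_ne hF _ _ fun h1 =>
        hk0 (((pow_eq_iff9 hη k 0).1 (by rw [h1, pow_zero])).trans Nat.cast_zero))
    intro i
    fin_cases i
    · exact el_nine (by
        change (pr 3 F q (yd η hη0 hηq)) ^ 9 = 1
        rw [← map_pow, yd_pow _ _ hη.pow_eq_one, map_one]) (yd_ne hF _ _ h3)
    · exact hx 1 (by decide)
    · exact hx 2 (by decide)
    · exact hx 4 (by decide)
  · have hyx : ∀ k : ℕ, ((2 * k : ℕ) : ZMod 9) ≠ 0 → ∀ σ : PSU 3 F q ≃* PSU 3 F q,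
        σ (pr 3 F q (yd η hη0 hηq)) ≠ pr 3 F q (xd (η ^ k) (hp0 k) (hpq k)) := fun k hk0 σ =>
      yd_xd hF h32 h3 (by
        rw [← pow_mul, mul_comm]
        intro h2
        exact hk0 (((pow_eq_iff9 hη _ 0).1 (by rw [h2, pow_zero])).trans Nat.cast_zero)) σ
    intro i j hij σ m x hm hσ
    fin_cases i <;> fin_cases j <;> simp at hij
    · exact hyx 1 (by decide) σ
    · exact hyx 2 (by decide) σ
    · exact hyx 4 (by decide) σ
    · exact key 1 2 (by decide) (by decide) (by decide) (by decide) (by decide) (by decide) σ m x hm hσ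
    · exact key 1 4 (by decide) (by decide) (by decide) (by decide) (by decide) (by decide) σ m x hm hσ
    · exact key 2 4 (by decide) (by decide) (by decide) (by decide) (by decide) (by decide) σ m x hm hσ
  · intro i
    fin_cases i
    · have hw : wt 3 (pr 3 F q (yd η hη0 hηq)) = 2 :=
        wt_dg (p := 3) (by norm_num) hF le_rfl h3 hw3 hwq (i := 0) (j := 1) (by simp) rfl
      have := wtGe_wt.{u, 0} (p := 3) (pr 3 F q (yd η hη0 hηq))
      rw [hw] at this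
      exact this
    · exact wtGe_one _
    · exact wtGe_one _
    · exact wtGe_one _

end three

section ext

open Cfsg.Agent.H664.R1 Cfsg.Agent.H626.ExtB.Perm Subgroup

/-- the Borel subgroup of a split BN pair of rank one, with a Sylow subgroup as unipotent radical -/
theorem stable_of_split {G : Type u} [Group G] [Finite G] (D : Split G) {r : ℕ} [Fact r.Prime] (hU : IsPGroup r D.U)
    (hr : ¬ r ∣ D.U.index) (hU1 : D.U ≠ ⊥) : Stable D.B := by
  obtain ⟨u0, hu0, hu01⟩ : ∃ u : G, u ∈ D.U ∧ u ≠ 1 := by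
    obtain ⟨a, ha⟩ := Subgroup.ne_bot_iff_exists_ne_one.1 hU1
    exact ⟨a.1, a.2, fun h => ha (Subtype.ext h)⟩
  -- the normalizer of `U`
  have hNU : ∀ y : G, (∀ u ∈ D.U, y * u * y⁻¹ ∈ D.U) → y ∈ D.B := by
    intro y hy
    by_contra hyB
    have hyB' : y⁻¹ ∉ D.B := fun h => hyB (by rw [← inv_inv y]; exact D.B.inv_mem h)
    obtain ⟨b, hb, c, hc, hbc⟩ := D.big y⁻¹ hyB'
    have h1 : b⁻¹ * (u0) * b ∈ D.U := D.nU' hb hu0
    -- `w⁻¹ u w ∈ U`
    have h2 : ∀ u ∈ D.U, D.w⁻¹ * u * D.w ∈ D.B := by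
      intro u hu
      have h3 : b * u * b⁻¹ ∈ D.U := D.nU b hb u hu
      have h4 := hy _ h3
      have h5 : y = c⁻¹ * D.w⁻¹ * b⁻¹ := by
        rw [← inv_inv y, hbc]
        group
      rw [h5] at h4
      have h6 : c⁻¹ * D.w⁻¹ * b⁻¹ * (b * u * b⁻¹) * (c⁻¹ * D.w⁻¹ * b⁻¹)⁻¹ = c⁻¹ * (D.w⁻¹ * u * D.w) * c := by group
      rw [h6] at h4
      have h7 := D.nU c hc _ h4
      have h8 : c * (c⁻¹ * (D.w⁻¹ * u * D.w) * c) * c⁻¹ = D.w⁻¹ * u * D.w := by group
      rw [h8] at h7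
      exact D.UB h7
    exact hu01 (D.disj u0 hu0 (D.cap u0 (D.UB hu0) (h2 u0 hu0)))
  refine ⟨?_, ?_, ?_⟩
  · intro s hs
    by_contra hsB
    obtain ⟨b, hb, c, hc, rfl⟩ := D.big s hsB
    have h1 : ∀ x ∈ D.B, D.w * x * D.w⁻¹ ∈ D.B := by
      intro x hx
      have h2 := hs (c⁻¹ * x * c) (D.B.mul_mem (D.B.mul_mem (D.B.inv_mem hc) hx) hc)
      have h3 : b * D.w * c * (c⁻¹ * x * c) * (b * D.w * c)⁻¹ = b * (D.w * x * D.w⁻¹) * b⁻¹ := by group
      rw [h3] at h2
      have h4 := D.B.mul_mem (D.B.mul_mem (D.B.inv_mem hb) h2) hb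
      have h5 : b⁻¹ * (b * (D.w * x * D.w⁻¹) * b⁻¹) * b = D.w * x * D.w⁻¹ := by group
      rwa [h5] at h4
    have h2 : D.w * u0 * D.w⁻¹ ∈ D.T := D.cap _ (h1 u0 (D.UB hu0)) (by
      have : D.w⁻¹ * (D.w * u0 * D.w⁻¹) * D.w = u0 := by group
      rw [this]
      exact D.UB hu0)
    have h3 := D.wT _ h2
    have h4 : D.w⁻¹ * (D.w * u0 * D.w⁻¹) * D.w = u0 := by group
    rw [h4] at h3
    exact hu01 (D.disj u0 hu0 h3)
  · intro α
    let U : Sylow r G := hU.toSylow hr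
    have hUc : (U : Subgroup G) = D.U := rfl
    have hs : Function.Surjective α.toMonoidHom := α.surjective
    obtain ⟨g, hg⟩ := MulAction.exists_smul_eq G (Sylow.mapSurjective hs U) U
    have h0 : ((Sylow.mapSurjective hs U : Sylow r G) : Subgroup G) = (U : Subgroup G).map α.toMonoidHom :=
      Sylow.coe_mapSurjective hs U
    have h1 : ∀ y : G, y ∈ (U : Subgroup G) ↔ ∃ u ∈ (U : Subgroup G), g * α u * g⁻¹ = y := by
      intro y
      have h2 : (U : Subgroup G) = MulAut.conj g • (U : Subgroup G).map α.toMonoidHom := by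
        rw [← h0, ← Sylow.coe_subgroup_smul, hg]
      conv_lhs => rw [h2]
      constructor
      · intro hy
        obtain ⟨z, ⟨u, hu, rfl⟩, he⟩ := hy
        exact ⟨u, hu, he⟩
      · rintro ⟨u, hu, he⟩
        exact ⟨α u, ⟨u, hu, rfl⟩, he⟩
    rw [hUc] at h1
    refine ⟨g, fun x hx => hNU _ fun y hy => ?_⟩
    obtain ⟨u, hu, rfl⟩ := (h1 y).1 hy
    refine (h1 _).2 ⟨x * u * x⁻¹, D.nU x hx u hu, ?_⟩
    rw [map_mul, map_mul, map_inv]
    group
  · intro α hα s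
    have hB : ∀ x, α x ∈ D.B → x ∈ D.B := by
      intro x hx
      have h1 : D.B.map α.toMonoidHom = D.B := by
        refine Subgroup.eq_of_le_of_card_ge ?_ ?_
        · rintro _ ⟨x, hx, rfl⟩
          exact hα x hx
        · exact (Nat.card_congr (D.B.equivMapOfInjective α.toMonoidHom α.injective).toEquiv).le
      rw [← h1] at hx
      obtain ⟨y, hy, hyx⟩ := hx
      rwa [← α.injective hyx]
    by_cases hsB : s ∈ D.B
    · exact ⟨α s * s⁻¹, D.B.mul_mem (hα s hsB) (D.B.inv_mem hsB), 1, D.B.one_mem, by group⟩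
    · obtain ⟨b, hb, c, hc, h1⟩ := D.big s hsB
      obtain ⟨b', hb', c', hc', h2⟩ := D.big (α s) (fun h => hsB (hB s h))
      refine ⟨b' * b⁻¹, D.B.mul_mem hb' (D.B.inv_mem hb), c⁻¹ * c', D.B.mul_mem (D.B.inv_mem hc) hc', ?_⟩
      rw [h2, h1]
      group

theorem index_B {G : Type u} [Group G] [Finite G] (D : Split G) : D.B.index = Nat.card D.U + 1 := by
  have h1 := D.B.card_mul_index
  rw [D.card_G, mul_comm] at h1
  exact Nat.eq_of_mul_eq_mul_right Nat.card_pos h1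

theorem stable_comap' {S : Type*} {L : Type*} [Group S] [Group L] (e : S ≃* L) {H : Subgroup L} (h : Stable H) :
    Stable (H.comap e.toMonoidHom) := by
  have key : ∀ (α : MulAut S) (x : S), (MulAut.congr e α) (e x) = e (α x) := by
    intro α x
    show e (α (e.symm (e x))) = e (α x)
    rw [e.symm_apply_apply]
  refine ⟨?_, ?_, ?_⟩
  · intro s hs
    refine h.self (e s) fun x hx => ?_
    have h1 := hs (e.symm x) (show e (e.symm x) ∈ H by rwa [e.apply_symm_apply])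
    have h2 : e (s * e.symm x * s⁻¹) ∈ H := h1
    rwa [map_mul, map_mul, e.apply_symm_apply, map_inv] at h2
  · intro α
    obtain ⟨l, hl⟩ := h.cls (MulAut.congr e α)
    refine ⟨e.symm l, fun x hx => ?_⟩
    have h1 := hl (e x) hx
    rw [key] at h1
    show e (e.symm l * α x * (e.symm l)⁻¹) ∈ H
    rwa [map_mul, map_mul, map_inv, e.apply_symm_apply]
  · intro α hα s
    obtain ⟨b, hb, b', hb', h1⟩ := h.double (MulAut.congr e α) (fun x hx => by
      have h2 := hα (e.symm x) (show e (e.symm x) ∈ H by rwa [e.apply_symm_apply])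
      have h3 : e (α (e.symm x)) ∈ H := h2
      rwa [← key, e.apply_symm_apply] at h3) (e s)
    refine ⟨e.symm b, show e (e.symm b) ∈ H by rwa [e.apply_symm_apply], e.symm b',
      show e (e.symm b') ∈ H by rwa [e.apply_symm_apply], ?_⟩
    apply e.injective
    rw [← key, h1, map_mul, map_mul, e.apply_symm_apply, e.apply_symm_apply]

open Cfsg.Agent.H508.KB Cfsg.Agent.H664.R1.U3 in
/-- **`ExtB` for `PSU_3(q)`, `p ∣ q ^ 3 + 1`** -/
theorem extB_psu_three {S : Type u} [Group S] [Finite S] {p : ℕ} {M : Ideal AlgInt} (hM : IsPModular p M) {F : Type}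
    [Field F] [Fintype F] {q : ℕ} (hF : Fintype.card F = q ^ 2) (e : S ≃* PSU 3 F q) (hpq : p ∣ q ^ 3 + 1) :
    ExtB p M S := by
  obtain ⟨σ, hσ, hs, ⟨e'⟩⟩ := U3.exists_iso hF
  have : Finite (PG σ) := inferInstance
  obtain ⟨r, k, hr, hchar, hk, hk0⟩ := exists_prime_pow hF
  have hrF := Fact.mk hr
  have hq := q_pos hF
  have hU : Nat.card (spS σ).U = q ^ 3 := card_US hF hs
  have hrq : r ∣ q := by
    rw [hk]
    exact dvd_pow_self r hk0.ne'
  have hq2 : 2 ≤ q := hr.two_le.trans (Nat.le_of_dvd hq hrq)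
  have hst : Stable (spS σ).B := by
    refine stable_of_split (spS σ) (r := r) (IsPGroup.of_card (n := k * 3) (by rw [hU, hk, pow_mul])) ?_ ?_
    · have h1 : (spS σ).U.index = (q ^ 3 + 1) * Nat.card (spS σ).T := by
        have h2 := (spS σ).U.card_mul_index
        rw [(spS σ).card_G, (spS σ).card_B, hU] at h2
        have h3 : 0 < q ^ 3 := by positivity
        apply Nat.eq_of_mul_eq_mul_left h3
        rw [h2]
        ring
      rw [h1]
      intro h2
      rcases (Nat.Prime.dvd_mul hr).1 h2 with h3 | h3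
      · have h4 : r ∣ q ^ 3 := Dvd.dvd.pow hrq (by norm_num)
        exact hr.one_lt.ne' (Nat.dvd_one.1 ((Nat.dvd_add_right h4).1 h3))
      · have h4 : r ∣ q ^ 2 - 1 := h3.trans (card_TS hF hs)
        have h5 : r ∣ q ^ 2 := Dvd.dvd.pow hrq (by norm_num)
        have h6 : q ^ 2 - (q ^ 2 - 1) = 1 := by
          have : 1 ≤ q ^ 2 := Nat.one_le_pow _ _ hq
          omega
        have h7 := Nat.dvd_sub h5 h4
        rw [h6] at h7
        exact hr.one_lt.ne' (Nat.dvd_one.1 h7)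
    · intro h1
      rw [h1, Subgroup.card_bot] at hU
      have : 1 < q ^ 3 := Nat.one_lt_pow (by norm_num) (by omega)
      omega
  have hst2 := stable_comap' (e.trans e') hst
  refine extB_of_stable hM _ hst2 ?_
  have h1 : ((spS σ).B.comap (e.trans e').toMonoidHom).index = (spS σ).B.index :=
    Subgroup.index_comap_of_surjective _ (e.trans e').surjective
  rw [h1, index_B, hU]
  exact hpq

end ext

section five

variable {F : Type} [Field F] [Fintype F] {q : ℕ} {p : ℕ} [hp : Fact p.Prime]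

theorem not_compl_of_wt {X : Type*} [Group X] {x : X} (h : wt p x = 2) :
    ¬ HasNormalPComplement p ↥(Subgroup.centralizer ({x} : Set X)) := by
  intro h1
  unfold wt at h
  rw [if_pos h1] at h
  omega

theorem not_conj_yd (hF : Fintype.card F = q ^ 2) (hp5 : 5 ≤ p) {w : F} (hw : IsPrimitiveRoot w p) {u v : F} (hu : u = w)
    (hv : v = w ^ 2) {hu0 : u ≠ 0} {huq : u ^ (q + 1) = 1} {hv0 : v ≠ 0} {hvq : v ^ (q + 1) = 1} :
    ¬ IsConj (pr 3 F q (yd u hu0 huq)) (pr 3 F q (yd v hv0 hvq)) := by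
  intro h
  obtain ⟨x, hx⟩ := isConj_iff.1 h
  obtain ⟨S, hS⟩ := semi_of_conj hF le_rfl hx
  have hk : ∀ k : ℕ, 0 < k → k < p → w ^ k ≠ 1 := fun k h1 h2 => hw.pow_ne_one_of_pos_of_lt h1.ne' h2
  have hdv : ∀ k : ℕ, w ^ k = 1 → p ∣ k := fun k h1 => (hw.pow_eq_one_iff_dvd k).1 h1
  have hu3 : u ^ 3 ≠ 1 := by rw [hu]; exact hk 3 (by norm_num) (by omega)
  have e1 : ∃ j, (![v, v, (v ^ 2)⁻¹] : Fin 3 → F) j = S.c * S.ρ u := Semi.exists_eig S 0
  have e2 : ∃ j, (![v, v, (v ^ 2)⁻¹] : Fin 3 → F) j = S.c * S.ρ (u ^ 2)⁻¹ := Semi.exists_eig S 2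
  rw [hS] at e1 e2
  have hval : ∀ {t : F}, (∃ j, (![v, v, (v ^ 2)⁻¹] : Fin 3 → F) j = t) → t = v ∨ t = (v ^ 2)⁻¹ := by
    rintro t ⟨j, hj⟩
    fin_cases j
    · exact Or.inl hj.symm
    · exact Or.inl hj.symm
    · exact Or.inr hj.symm
  have f1 : S.c * u = v ∨ S.c * u = (v ^ 2)⁻¹ := hval e1
  have f2 : S.c * (u ^ 2)⁻¹ = v ∨ S.c * (u ^ 2)⁻¹ = (v ^ 2)⁻¹ := hval e2
  have hc0 := S.c0
  have hne : S.c * u ≠ S.c * (u ^ 2)⁻¹ := by
    intro h1
    have h2 := mul_left_cancel₀ hc0 h1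
    apply hu3
    rw [pow_succ]
    nth_rewrite 2 [h2]
    exact mul_inv_cancel₀ (pow_ne_zero 2 hu0)
  have hu2 : u ^ 2 ≠ 0 := pow_ne_zero 2 hu0
  have hv2 : v ^ 2 ≠ 0 := pow_ne_zero 2 hv0
  have hw0 : w ≠ 0 := hu ▸ hu0
  rcases f1 with f1 | f1 <;> rcases f2 with f2 | f2
  · exact hne (f1.trans f2.symm)
  · -- `v ^ 3 = u ^ 3`
    have h1 : v ^ 3 = u ^ 3 := by
      have h2 : S.c * v ^ 2 = u ^ 2 := by
        field_simp at f2
        linear_combination f2
      have h3 : S.c * v ^ 3 = S.c * u ^ 3 := by linear_combination v * h2 - u ^ 2 * f1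
      exact mul_left_cancel₀ hc0 h3
    rw [hv, hu, ← pow_mul] at h1
    have h2 : w ^ 3 = 1 := by
      apply mul_left_cancel₀ (pow_ne_zero 3 hw0)
      rw [← pow_add, mul_one]
      exact h1
    exact hk 3 (by norm_num) (by omega) h2
  · have h1 : v ^ 3 * u ^ 3 = 1 := by
      have g1 : S.c * u * v ^ 2 = 1 := by rw [f1, inv_mul_cancel₀ hv2]
      have g2 : S.c = v * u ^ 2 := by
        field_simp at f2
        linear_combination f2
      rw [g2] at g1
      linear_combination g1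
    rw [hv, hu, ← pow_mul, ← pow_add] at h1
    have h2 := hdv _ h1
    have h3 : p ∣ 3 ^ 2 := h2
    have h4 := hp.out.dvd_of_dvd_pow h3
    have := Nat.le_of_dvd (by norm_num) h4
    omega
  · exact hne (f1.trans f2.symm)

theorem seven_psu_three {M : Ideal AlgInt} (hM : IsPModular p M) (hF : Fintype.card F = q ^ 2) (h32 : ¬ (3 = 3 ∧ q = 2))
    (hp5 : 5 ≤ p) (hpq : p ∣ q + 1) : 7 ≤ Nat.card (principalBlock M (PSU 3 F q)) := by
  have hp2 : p ≠ 2 := by omega
  have hfin : Finite (SU 3 F q) := Finite.of_injective (mat : SU 3 F q → _) mat_injective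
  obtain ⟨w, hw, hwq⟩ := exists_root hF hpq
  have hw0 : w ≠ 0 := hw.ne_zero hp.out.ne_zero
  have hk : ∀ k : ℕ, 0 < k → k < p → w ^ k ≠ 1 := fun k h1 h2 => hw.pow_ne_one_of_pos_of_lt h1.ne' h2
  have hdv : ∀ k : ℕ, w ^ k = 1 → p ∣ k := fun k h1 => (hw.pow_eq_one_iff_dvd k).1 h1
  have hw1 : w ≠ 1 := by have := hk 1 one_pos (by omega); rwa [pow_one] at this
  have hX := not_compl_psu hp2 hF le_rfl hw1 hw.pow_eq_one hwq
  have hv0 : w ^ 2 ≠ 0 := pow_ne_zero 2 hw0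
  have hvq : (w ^ 2) ^ (q + 1) = 1 := by rw [← pow_mul, mul_comm, pow_mul, hwq, one_pow]
  have hvp : (w ^ 2) ^ p = 1 := by rw [← pow_mul, mul_comm, pow_mul, hw.pow_eq_one, one_pow]
  have hv3 : (w ^ 2) ^ 3 ≠ 1 := by
    rw [← pow_mul]
    intro h
    have h1 : p ∣ 2 * 3 := hdv _ h
    rcases (Nat.Prime.dvd_mul hp.out).1 h1 with h2 | h2
    · have := Nat.le_of_dvd (by norm_num) h2
      omega
    · have := Nat.le_of_dvd (by norm_num) h2
      omega
  have hw3 : w ^ 3 ≠ 1 := hk 3 (by norm_num) (by omega)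
  have hw2 : w ^ 2 ≠ 1 := hk 2 (by norm_num) (by omega)
  have ho : ∀ x : PSU 3 F q, x ^ p = 1 → ∃ e : ℕ, orderOf x = p ^ e := by
    intro x hx
    obtain ⟨t, -, ht⟩ := (Nat.dvd_prime_pow hp.out).1 (show orderOf x ∣ p ^ 1 by rw [pow_one]; exact orderOf_dvd_of_pow_eq_one hx)
    exact ⟨t, ht⟩
  have n1 := yd_ne hF hw0 hwq hw3
  have n2 := yd_ne hF hv0 hvq hv3
  have n3 := xd_ne hF hw0 hwq hw1
  have hyx : ∀ {u : F} {hu0 : u ≠ 0} {hu : u ^ (q + 1) = 1}, u ^ 3 ≠ 1 →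
      ¬ IsConj (pr 3 F q (yd u hu0 hu)) (pr 3 F q (xd w hw0 hwq)) := by
    intro u hu0 hu hu3 h
    obtain ⟨x, hx⟩ := isConj_iff.1 h
    exact yd_xd hF h32 hu3 hw2 (MulAut.conj x) hx
  have h1 := card_ge_of_family hM ![(1 : PSU 3 F q), pr 3 F q (yd w hw0 hwq), pr 3 F q (yd (w ^ 2) hv0 hvq),
    pr 3 F q (xd w hw0 hwq)] ?_ ?_ ![2, 2, 2, 1] ?_
  · simpa [Fin.sum_univ_four] using h1
  · intro i
    fin_cases i
    · exact ho _ (one_pow _)
    · exact ho _ (by
        change (pr 3 F q (yd w hw0 hwq)) ^ p = 1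
        rw [← map_pow, yd_pow _ _ hw.pow_eq_one, map_one])
    · exact ho _ (by
        change (pr 3 F q (yd (w ^ 2) hv0 hvq)) ^ p = 1
        rw [← map_pow, yd_pow _ _ hvp, map_one])
    · exact ho _ (by
        change (pr 3 F q (xd w hw0 hwq)) ^ p = 1
        rw [← map_pow, xd_pow _ _ hw.pow_eq_one, map_one])
  · intro i j hij
    fin_cases i <;> fin_cases j <;> simp at hij
    · exact fun h => n1 (isConj_one_right.1 h)
    · exact fun h => n2 (isConj_one_right.1 h)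
    · exact fun h => n3 (isConj_one_right.1 h)
    · exact not_conj_yd hF hp5 hw rfl rfl
    · exact hyx hw3
    · exact hyx hv3
  · have hc : ∀ {u : F} {hu0 : u ≠ 0} {hu : u ^ (q + 1) = 1},
        2 ≤ blockRank p (principalBlock M ↥(Subgroup.centralizer ({pr 3 F q (yd u hu0 hu)} : Set (PSU 3 F q)))) :=
      fun {u hu0 hu} => two_le_rank hM (not_compl_of_wt
        (wt_dg hp2 hF le_rfl hw1 hw.pow_eq_one hwq (i := 0) (j := 1) (by simp) rfl))
    intro i
    fin_cases i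
    · refine two_le_rank hM fun h => hX ?_
      let g : PSU 3 F q →* ↥(Subgroup.centralizer ({(1 : PSU 3 F q)} : Set (PSU 3 F q))) :=
        { toFun := fun c => ⟨c, by rw [Subgroup.mem_centralizer_singleton_iff, mul_one, one_mul]⟩
          map_one' := rfl
          map_mul' := fun _ _ => rfl }
      exact H634.ZJ.hasNormalPComplement_of_injective g (fun a b hab => congrArg Subtype.val hab) h
    · exact hc
    · exact hc
    · exact H634.Cols.blockRank_pos hM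

/-- **Row** `PSU_3(q)`, `p ≥ 5`, `p ∣ q + 1`. -/
theorem row_psu_three_five {S : Type u} [Group S] [Finite S] (hF : Fintype.card F = q ^ 2) (e : S ≃* PSU 3 F q)
    (h32 : ¬ (3 = 3 ∧ q = 2)) (hp5 : 5 ≤ p) (hpq : p ∣ q + 1) : KRow.{u, u} p S := by
  refine H668.K6.KRow.of_ext (H668.K6.ExtK.of_extB fun M hM => extB_psu_three hM hF e (hpq.trans ?_)) fun M hM => ?_
  · have h1 : q ^ 3 + 1 = (q + 1) * (q ^ 2 - q + 1) := by
      have hq : q ≤ q ^ 2 := by rw [sq]; exact Nat.le_mul_self q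
      zify [hq]
      ring
    rw [h1]
    exact Dvd.intro _ rfl
  · rw [H668.K6.card_principal_congr e]
    exact seven_psu_three hM hF h32 hp5 hpq

end five

section rows

open Cfsg.Agent.H436 Cfsg.Agent.OrdDiv Subgroup

theorem nine_dvd_three {q c : ℕ} (hq1 : 1 ≤ q) (h3 : 3 ∣ q + 1) (hc : 3 * c = q ^ 3 * ((q ^ 2 - 1) * (q ^ 3 + 1)))
    (h27 : 27 ∣ c) : 9 ∣ q + 1 := by
  obtain ⟨m, hm⟩ := h3
  have hp := Nat.prime_three
  have h1 : 81 ∣ q ^ 3 * ((q ^ 2 - 1) * (q ^ 3 + 1)) := by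
    rw [← hc]
    exact Nat.mul_dvd_mul_left 3 h27
  have h2 : q ^ 3 * ((q ^ 2 - 1) * (q ^ 3 + 1)) = 27 * (q ^ 3 * ((q - 1) * (3 * (m * (m - 1)) + 1)) * (m * m)) := by
    obtain ⟨k, rfl⟩ : ∃ k, m = k + 1 := ⟨m - 1, by omega⟩
    have hq : q = 3 * k + 2 := by omega
    subst hq
    have e1 : (3 * k + 2) ^ 2 - 1 = (3 * k + 1) * (3 * k + 3) := by
      have : (3 * k + 2) ^ 2 = (3 * k + 1) * (3 * k + 3) + 1 := by ring
      omega
    rw [e1, Nat.add_sub_cancel]
    have e2 : 3 * k + 2 - 1 = 3 * k + 1 := by omega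
    rw [e2]
    ring
  rw [h2] at h1
  have h3 : 27 * 3 ∣ 27 * (q ^ 3 * ((q - 1) * (3 * (m * (m - 1)) + 1)) * (m * m)) := h1
  have h4 := Nat.dvd_of_mul_dvd_mul_left (by norm_num) h3
  have h5 : 3 ∣ m := by
    rcases (Nat.Prime.dvd_mul hp).1 h4 with h5 | h5
    · exfalso
      rcases (Nat.Prime.dvd_mul hp).1 h5 with h6 | h6
      · have := hp.dvd_of_dvd_pow h6
        omega
      · rcases (Nat.Prime.dvd_mul hp).1 h6 with h7 | h7
        · omega
        · omega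
    · exact ((Nat.Prime.dvd_mul hp).1 h5).elim id id
  rw [hm]
  exact Nat.mul_dvd_mul_left 3 h5

/-- **All rows `PSU_n(q)`, `p` odd, `p ∤ q`.** -/
theorem row_psu {S : Type u} [Group S] [Finite S] [IsSimpleGroup S] {p n q : ℕ} [hp : Fact p.Prime] (hp2 : p ≠ 2)
    (nab : ¬ ∀ x y : S, Commute x y) (hd : p ∣ Nat.card S) (h27 : p = 3 → 27 ∣ Nat.card S)
    (nc : ∀ Q : Sylow p S, ¬ IsCyclic (Q : Subgroup S)) (h : IsNamed (.psu n q) S) (hq : ¬ p ∣ q) :
    KRow.{u, u} p S := by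
  classical
  obtain ⟨F, _, _, hF, ⟨e⟩⟩ := h.real
  obtain ⟨hn, h32, -⟩ : 3 ≤ n ∧ ¬ (n = 3 ∧ q = 2) ∧ IsPrimePow q := h.cond
  have hcard : Nat.card (PSU n F q) = Nat.card S := (Nat.card_congr e.toEquiv).symm
  by_cases hq1 : p ∣ q + 1
  · rcases Nat.lt_or_ge n 4 with hn4 | hn4
    · have hn3 : n = 3 := by omega
      subst hn3
      rcases Nat.lt_or_ge p 5 with hp5 | hp5
      · have hp3 : p = 3 := by
          have h1 := hp.out.two_le
          interval_cases p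
          · exact absurd rfl hp2
          · rfl
          · exact absurd hp.out (by norm_num)
        subst hp3
        refine KRow.congr e.symm (row_psu_three_three hF ?_)
        have hq0 : 1 ≤ q := LieClassical.HermBasic.q_pos hF
        refine nine_dvd_three hq0 hq1 (c := Nat.card S) ?_ (h27 rfl)
        have h1 := psu_eq hF hn
        have h2 : fPSU.den 3 q = Nat.gcd 3 (q + 1) * (q + 1) := rfl
        have h3 : fPSU.num 3 q = q ^ (3 * (3 - 1) / 2) * prU q 3 := rfl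
        have h4 : prU q 3 = (q + 1) * ((q ^ 2 - 1) * ((q ^ 3 + 1) * 1)) := by
          simp [prU, List.range_succ]
        have h5 : Nat.gcd 3 (q + 1) = 3 := Nat.gcd_eq_left hq1
        rw [h2, h3, h4, h5, hcard] at h1
        norm_num at h1
        apply Nat.eq_of_mul_eq_mul_left (show 0 < q + 1 by omega)
        linear_combination h1
      · exact row_psu_three_five hF e h32 hp5 hq1
    · exact KRow.congr e.symm (row_psu_one hp2 hF hn4 hq1)
  · refine KRow.congr e.symm (row_psu_other hp2 hF hn hq hq1 ?_ ?_ ?_)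
    · intro hX
      refine not_compl_of_simple (p := p) (X := S) ?_ hd
        (Cfsg.Agent.H634.ZJ.hasNormalPComplement_of_injective e.toMonoidHom e.injective hX)
      push Not at nab
      obtain ⟨x, y, hxy⟩ := nab
      exact ⟨x, y, hxy⟩
    · intro Q hQ
      apply nc (Q.mapSurjective (f := e.symm.toMonoidHom) e.symm.surjective)
      have h2 : ((Q.mapSurjective (f := e.symm.toMonoidHom) e.symm.surjective : Sylow p S) : Subgroup S) =
          (Q : Subgroup (PSU n F q)).map e.symm.toMonoidHom := rfl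
      rw [h2]
      exact isCyclic_of_surjective _ (e.symm.toMonoidHom.subgroupMap_surjective (Q : Subgroup (PSU n F q)))
    · intro h3
      rw [hcard]
      exact h27 h3

end rows

end Cfsg.Agent.H166.K6
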