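import Cfsg.Agent.H166.K6.Fus
import Cfsg.Agent.H166.K6.PsuInv

/-!
# Diagonal elements of `PSU_n(q)` (helper166)

* `dg_ne_one`, `el_dg` : the elements `pr (suDiag a)`;
* `wt_dg` : weight 2 if two entries are equal (`p ∣ q + 1`).
-/

set_option autoImplicit false

open Cfsg Matrix Cfsg.Agent.LieClassical.HermBasic Cfsg.Agent.LieClassical.HermSiegel
  Cfsg.Agent.LieClassical.SUBasic Cfsg.Agent.H61.K6
open Cfsg.Agent.ClassicalGeometry.UnitAutBasic (pr pr_surjective pr_eq_pr_iff exists_scalar_of_pr_eq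
  exists_scalar_of_mem_center)

namespace Cfsg.Agent.H166.K6

variable {F : Type*} [Field F] {q n : ℕ}

theorem mat_suDiag (a : Fin n → F) (hd : ∏ i, a i = 1) (ha : ∀ i, a i ^ (q + 1) = 1) :
    mat (suDiag q a hd ha) = Matrix.diagonal a := rfl

theorem suDiag_mul (a b : Fin n → F) (hd : ∏ i, a i = 1) (ha : ∀ i, a i ^ (q + 1) = 1) (hd' : ∏ i, b i = 1)
    (hb : ∀ i, b i ^ (q + 1) = 1) : suDiag q a hd ha * suDiag q b hd' hb =
      suDiag q (fun i => a i * b i) (by rw [Finset.prod_mul_distrib, hd, hd', one_mul])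
        (fun i => by rw [mul_pow, ha, hb, one_mul]) := by
  apply mat_injective
  rw [mat_mul, mat_suDiag, mat_suDiag, mat_suDiag, Matrix.diagonal_mul_diagonal]

theorem suDiag_eq_one {a : Fin n → F} {hd : ∏ i, a i = 1} {ha : ∀ i, a i ^ (q + 1) = 1} (h : ∀ i, a i = 1) :
    suDiag q a hd ha = 1 := by
  apply mat_injective
  rw [mat_suDiag, mat_one, ← Matrix.diagonal_one]
  congr 1
  funext i
  exact h i

theorem suDiag_pow (a : Fin n → F) (hd : ∏ i, a i = 1) (ha : ∀ i, a i ^ (q + 1) = 1) {m : ℕ}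
    (h : ∀ i, a i ^ m = 1) : suDiag q a hd ha ^ m = 1 := by
  apply mat_injective
  have h1 : ∀ k : ℕ, mat (suDiag q a hd ha ^ k) = Matrix.diagonal fun i => a i ^ k := by
    intro k
    induction k with
    | zero => rw [pow_zero, mat_one, ← Matrix.diagonal_one]; congr 1; funext i; rw [pow_zero]
    | succ k ih =>
      rw [pow_succ, mat_mul, ih, mat_suDiag, Matrix.diagonal_mul_diagonal]
      congr 1
      funext i
      rw [pow_succ]
  rw [h1, mat_one, ← Matrix.diagonal_one]
  congr 1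
  funext i
  exact h i

theorem dg_ne_one [Fintype F] (hF : Fintype.card F = q ^ 2) (hn : 3 ≤ n) {a : Fin n → F} {hd : ∏ i, a i = 1}
    {ha : ∀ i, a i ^ (q + 1) = 1} {i j : Fin n} (hij : a i ≠ a j) : pr n F q (suDiag q a hd ha) ≠ 1 := by
  intro h
  have h1 : suDiag q a hd ha ∈ Subgroup.center (SU n F q) := (QuotientGroup.eq_one_iff _).1 h
  obtain ⟨c, -, hc⟩ := exists_scalar_of_mem_center hF hn h1
  apply hij
  have h2 : ∀ k, a k = c := by
    intro k
    have h3 := congrFun (hc (fun _ => 1)) k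
    rw [act_def, mat_suDiag, Matrix.mulVec_diagonal] at h3
    simpa using h3
  rw [h2, h2]

theorem el_dg [Fintype F] (hF : Fintype.card F = q ^ 2) (hn : 3 ≤ n) {p : ℕ} [hp : Fact p.Prime] {a : Fin n → F}
    {hd : ∏ i, a i = 1} {ha : ∀ i, a i ^ (q + 1) = 1} {i j : Fin n} (hij : a i ≠ a j) (hap : ∀ i, a i ^ p = 1) :
    El p (pr n F q (suDiag q a hd ha)) := by
  have h1 := dg_ne_one hF hn (hd := hd) (ha := ha) hij
  refine ⟨⟨1, ?_⟩, h1⟩
  rw [pow_one]
  refine orderOf_eq_prime ?_ h1
  rw [← map_pow, suDiag_pow a hd ha hap, map_one]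

theorem neg_one_pow (hF : ∃ _ : Fintype F, Fintype.card F = q ^ 2) : (-1 : F) ^ (q + 1) = 1 := by
  obtain ⟨_, hF⟩ := hF
  have h := neg_pow_q hF (1 : F)
  rw [one_pow] at h
  rw [pow_succ, h, neg_mul_neg, one_mul]

/-- A transposition of two coordinates, of determinant one. -/
theorem exists_swap [Fintype F] (hF : Fintype.card F = q ^ 2) {i j : Fin n} (hij : i ≠ j) :
    ∃ c : SU n F q, ∀ (b b' : Fin n → F) (hd : ∏ i, b i = 1) (hb : ∀ i, b i ^ (q + 1) = 1) (hd' : ∏ i, b' i = 1)
      (hb' : ∀ i, b' i ^ (q + 1) = 1), (∀ k, b' k = b (Equiv.swap i j k)) →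
      c * suDiag q b hd hb = suDiag q b' hd' hb' * c := by
  classical
  set σ := Equiv.swap i j with hσ
  let s : Fin n → F := Function.update (fun _ => 1) i (-1)
  have hs : ∀ k, s k ^ (q + 1) = 1 := by
    intro k
    by_cases hk : k = i
    · subst hk
      simp only [s, Function.update_self]
      exact neg_one_pow ⟨_, hF⟩
    · simp only [s, Function.update_of_ne hk, one_pow]
  have hprod : ∏ k, s k = -1 := by
    rw [Finset.prod_update_of_mem (Finset.mem_univ i)]
    simp
  have hdet : (Matrix.diagonal s * σ.permMatrix F).det = 1 := by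
    rw [det_mul, det_diagonal, hprod, det_permutation, hσ, Equiv.Perm.sign_swap hij]
    simp
  have hmv : ∀ u : Fin n → F, (Matrix.diagonal s * σ.permMatrix F) *ᵥ u = fun k => s k * u (σ k) := by
    intro u
    funext k
    rw [← mulVec_mulVec, mulVec_diagonal, permMatrix_mulVec]
    rfl
  let c : SU n F q := ⟨⟨Matrix.diagonal s * σ.permMatrix F, hdet⟩, by
    refine (LieClassical.SUBasic.mem_SU_iff _).2 fun u v => ?_
    show hermForm n F q ((Matrix.diagonal s * σ.permMatrix F) *ᵥ u) ((Matrix.diagonal s * σ.permMatrix F) *ᵥ v) = _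
    rw [hmv, hmv]
    simp only [hermForm_apply]
    rw [← Equiv.sum_comp σ (fun i => u i * v i ^ q)]
    refine Finset.sum_congr rfl fun k _ => ?_
    have h := hs k
    rw [pow_succ'] at h
    calc s k * u (σ k) * (s k * v (σ k)) ^ q = (s k * s k ^ q) * (u (σ k) * v (σ k) ^ q) := by
          rw [mul_pow]; ring
      _ = u (σ k) * v (σ k) ^ q := by rw [h, one_mul]⟩
  refine ⟨c, fun b b' hd hb hd' hb' hbb => ?_⟩
  apply ext_act
  intro v
  have hc : ∀ u, act c u = fun k => s k * u (σ k) := hmv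
  rw [act_mul, act_mul, hc, hc, act_def, act_def, mat_suDiag, mat_suDiag]
  funext k
  rw [mulVec_diagonal, mulVec_diagonal, hbb]
  ring

section

variable {p : ℕ} [hp : Fact p.Prime]

/-- Weight two for a diagonal element with two equal entries. -/
theorem wt_dg (hp2 : p ≠ 2) [Fintype F] (hF : Fintype.card F = q ^ 2) (hn : 3 ≤ n) {w : F} (hw1 : w ≠ 1)
    (hwp : w ^ p = 1) (hwq : w ^ (q + 1) = 1) {a : Fin n → F} {hd : ∏ i, a i = 1} {ha : ∀ i, a i ^ (q + 1) = 1}
    {i j : Fin n} (hij : i ≠ j) (haij : a i = a j) :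
    wt p (pr n F q (suDiag q a hd ha)) = 2 := by
  classical
  have hw0 : w ≠ 0 := by
    rintro rfl
    rw [zero_pow hp.out.ne_zero] at hwp
    exact zero_ne_one hwp
  have : Finite (SU n F q) := Finite.of_injective (mat : SU n F q → _) mat_injective
  let b : Fin n → F := Function.update (Function.update (fun _ => 1) i w) j w⁻¹
  have hbj : b j = w⁻¹ := Function.update_self _ _ _
  have hbi : b i = w := by
    simp only [b]
    rw [Function.update_of_ne hij, Function.update_self]
  have hbk : ∀ k, k ≠ i → k ≠ j → b k = 1 := by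
    intro k h1 h2
    simp only [b]
    rw [Function.update_of_ne h2, Function.update_of_ne h1]
  have hball : ∀ P : F → Prop, P w → P w⁻¹ → P 1 → ∀ k, P (b k) := by
    intro P h1 h2 h3 k
    by_cases hk : k = i
    · rw [hk, hbi]; exact h1
    · by_cases hk' : k = j
      · rw [hk', hbj]; exact h2
      · rw [hbk k hk hk']; exact h3
  have hbd : ∏ k, b k = 1 := by
    have : ∏ k, b k = w * w⁻¹ := by
      rw [← Finset.mul_prod_erase Finset.univ b (Finset.mem_univ i), hbi,
        ← Finset.mul_prod_erase _ b (Finset.mem_erase.2 ⟨hij.symm, Finset.mem_univ j⟩), hbj, Finset.prod_eq_one, mul_one]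
      intro k hk
      rw [Finset.mem_erase, Finset.mem_erase] at hk
      exact hbk k hk.2.1 hk.1
    rw [this, mul_inv_cancel₀ hw0]
  have hbq : ∀ k, b k ^ (q + 1) = 1 := hball (fun x => x ^ (q + 1) = 1) hwq (by rw [inv_pow, hwq, inv_one]) (one_pow _)
  have hbp : ∀ k, b k ^ p = 1 := hball (fun x => x ^ p = 1) hwp (by rw [inv_pow, hwp, inv_one]) (one_pow _)
  let b' : Fin n → F := fun k => b (Equiv.swap i j k)
  have hbd' : ∏ k, b' k = 1 := by rw [← hbd]; exact Equiv.prod_comp (Equiv.swap i j) b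
  have hbq' : ∀ k, b' k ^ (q + 1) = 1 := fun k => hbq _
  have hbb' : suDiag q b' hbd' hbq' * suDiag q b hbd hbq = 1 := by
    rw [suDiag_mul]
    refine suDiag_eq_one fun k => ?_
    by_cases hk : k = i
    · simp only [b', hk, Equiv.swap_apply_left, hbi, hbj, inv_mul_cancel₀ hw0]
    · by_cases hk' : k = j
      · simp only [b', hk', Equiv.swap_apply_right, hbi, hbj, mul_inv_cancel₀ hw0]
      · simp only [b', Equiv.swap_apply_of_ne_of_ne hk hk', hbk k hk hk', one_mul]
  obtain ⟨c, hc⟩ := exists_swap (n := n) hF hij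
  have h1 := hc b b' hbd hbq hbd' hbq' (fun k => rfl)
  have h2 := hc a a hd ha hd ha (fun k => by
    by_cases hk : k = i
    · rw [hk, Equiv.swap_apply_left, haij]
    · by_cases hk' : k = j
      · rw [hk', Equiv.swap_apply_right, haij]
      · rw [Equiv.swap_apply_of_ne_of_ne hk hk'])
  obtain ⟨k, hki, hkj⟩ : ∃ k : Fin n, k ≠ i ∧ k ≠ j := by
    by_contra hcon
    push Not at hcon
    have h3 : (Finset.univ : Finset (Fin n)) ⊆ {i, j} := by
      intro k _
      rw [Finset.mem_insert, Finset.mem_singleton]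
      by_cases h4 : k = i
      · exact Or.inl h4
      · exact Or.inr (hcon k h4)
    have h4 := Finset.card_le_card h3
    rw [Finset.card_univ, Fintype.card_fin] at h4
    have h5 := Finset.card_le_two (a := i) (b := j)
    omega
  refine wt_two_of_inv hp2 (y := pr n F q (suDiag q b hbd hbq)) (c := pr n F q c) ?_ ?_ ?_ ?_ ?_
  · rw [← map_mul, ← map_mul, suDiag_mul, suDiag_mul]
    congr 2
    funext k
    exact mul_comm _ _
  · rw [← map_mul, ← map_mul, h2]
  · refine dg_ne_one hF hn (i := i) (j := k) ?_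
    rw [hbi, hbk k hki hkj]
    exact hw1
  · rw [← map_pow, suDiag_pow b hbd hbq hbp, map_one]
  · rw [← map_mul, h1, map_mul]
    congr 1
    rw [← map_inv]
    congr 1
    exact eq_inv_of_mul_eq_one_left hbb'

/-- `PSU_n(q)` has no normal `p`-complement, `p ∣ q + 1`. -/
theorem not_compl_psu (hp2 : p ≠ 2) [Fintype F] (hF : Fintype.card F = q ^ 2) (hn : 3 ≤ n) {w : F} (hw1 : w ≠ 1)
    (hwp : w ^ p = 1) (hwq : w ^ (q + 1) = 1) : ¬ HasNormalPComplement p (PSU n F q) := by
  intro h
  have : Finite (SU n F q) := Finite.of_injective (mat : SU n F q → _) mat_injective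
  have h1 := wt_dg hp2 hF hn hw1 hwp hwq (a := fun _ => 1) (hd := by simp) (ha := fun _ => one_pow _)
    (i := ⟨0, by omega⟩) (j := ⟨1, by omega⟩) (by simp) rfl
  unfold wt at h1
  rw [if_pos] at h1
  · omega
  · exact H634.ZJ.hasNormalPComplement_of_injective (Subgroup.subtype _) Subtype.val_injective h

end

end Cfsg.Agent.H166.K6
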