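import Cfsg.Agent.H166.K6.PsuDiag
import Cfsg.Agent.H724.KB.UBlock

/-!
# `SUs S → PSU_n(q)` with coordinates, and elements of order prime to `q + 1` (helper166)
-/

set_option autoImplicit false

open Cfsg Module Subgroup Cfsg.Agent.LieClassical.HermBasic Cfsg.Agent.LieClassical.HermSiegel Cfsg.Agent.H724.KB
  Cfsg.Agent.H61.K6

namespace Cfsg.Agent.H166.K6

section iso

variable {F : Type} [Field F] [Fintype F] {q : ℕ} (hF : Fintype.card F = q ^ 2)
  {V : Type} [AddCommGroup V] [Module F V] {n : ℕ}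

variable {S : V →ₛₗ[(conj hF).toRingHom] V →ₗ[F] F}

/-- the special unitary group, with coordinates -/
theorem exists_iso' (b : Basis (Fin n) F V) (hb : ∀ i j, S (b i) (b j) = if i = j then 1 else 0) :
    ∃ e : SUs S ≃* SU n F q, ∀ (g : SUs S) (v : V), act (e g) (b.equivFun v) = b.equivFun (g.1 v) := by
  have key : ∀ A : Matrix.SpecialLinearGroup (Fin n) F, A ∈ SU n F q ↔
      (Matrix.SpecialLinearGroup.toLin_equiv b A).1 ∈ SUs S := by
    intro A
    rw [LieClassical.HermBasic.mem_SU_iff, mem_SUs]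
    constructor
    · intro h
      refine ⟨fun u v => ?_, (Matrix.SpecialLinearGroup.toLin_equiv b A).2⟩
      rw [toLin_apply, toLin_apply, ← H101.RO.herm_eq hF S b hb, h, H101.RO.herm_eq hF S b hb,
        LinearEquiv.symm_apply_apply, LinearEquiv.symm_apply_apply]
    · intro h u v
      rw [H101.RO.herm_eq hF S b hb, H101.RO.herm_eq hF S b hb]
      have h2 := h.1 (b.equivFun.symm v) (b.equivFun.symm u)
      rw [toLin_apply, toLin_apply, LinearEquiv.apply_symm_apply, LinearEquiv.apply_symm_apply] at h2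
      exact h2
  let f : SU n F q →* SUs S :=
    { toFun := fun A => ⟨(Matrix.SpecialLinearGroup.toLin_equiv b A.1).1, (key A.1).1 A.2⟩
      map_one' := by
        apply Subtype.ext
        change (Matrix.SpecialLinearGroup.toLin_equiv b 1).1 = 1
        rw [map_one]; rfl
      map_mul' := fun A B => by
        apply Subtype.ext
        change (Matrix.SpecialLinearGroup.toLin_equiv b (A.1 * B.1)).1 = _
        rw [map_mul]; rfl }
  have hf : Function.Bijective f := ⟨fun A B h => by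
    have h1 := congrArg Subtype.val h
    exact Subtype.ext ((Matrix.SpecialLinearGroup.toLin_equiv b).injective (Subtype.ext h1)), fun g => by
    have h1 := (mem_SUs.1 g.2).2
    let A := (Matrix.SpecialLinearGroup.toLin_equiv b).symm ⟨g.1, h1⟩
    have hA : (Matrix.SpecialLinearGroup.toLin_equiv b A).1 = g.1 := by
      change (Matrix.SpecialLinearGroup.toLin_equiv b ((Matrix.SpecialLinearGroup.toLin_equiv b).symm ⟨g.1, h1⟩)).1 = g.1
      rw [MulEquiv.apply_symm_apply]
    exact ⟨⟨A, (key A).2 (by rw [hA]; exact g.2)⟩, Subtype.ext hA⟩⟩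
  refine ⟨(MulEquiv.ofBijective f hf).symm, fun g v => ?_⟩
  obtain ⟨A, rfl⟩ := hf.2 g
  have h1 : (MulEquiv.ofBijective f hf).symm (f A) = A := (MulEquiv.ofBijective f hf).symm_apply_apply A
  rw [h1]
  have h2 : (f A).1 v = b.equivFun.symm (Matrix.mulVec (A.1 : Matrix (Fin n) (Fin n) F) (b.equivFun v)) :=
    toLin_apply b A.1 v
  rw [h2, LinearEquiv.apply_symm_apply]
  rfl

/-- The homomorphism to `PSU` and its properties. -/
structure PhiD (S : V →ₛₗ[(conj hF).toRingHom] V →ₗ[F] F) (n : ℕ) where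
  φ : SUs S →* PSU n F q
  surj : Function.Surjective φ
  ker_comm : ∀ g, φ g = 1 → ∀ g', g * g' = g' * g
  ker_pow : ∀ g, φ g = 1 → g ^ (q + 1) = 1
  semi : ∀ (σ : PSU n F q ≃* PSU n F q) (g g' : SUs S) (m : ℕ), m.Coprime (q + 1) → g ^ m = 1 → g' ^ m = 1 →
    σ (φ g) = φ g' → ∃ (Φ : V ≃ V) (ρ : F ≃+* F), (∀ v w, Φ (v + w) = Φ v + Φ w) ∧
      (∀ (a : F) v, Φ (a • v) = ρ a • Φ v) ∧ ∀ v, g'.1 (Φ v) = Φ (g.1 v)

theorem exists_phi (hn : 3 ≤ n) (h32 : ¬ (n = 3 ∧ q = 2)) (b : Basis (Fin n) F V)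
    (hb : ∀ i j, S (b i) (b j) = if i = j then 1 else 0) : Nonempty (PhiD hF S n) := by
  obtain ⟨e, he⟩ := exists_iso' hF b hb
  refine ⟨⟨(ClassicalGeometry.UnitAutBasic.pr n F q).comp e.toMonoidHom, ?_, ?_, ?_, ?_⟩⟩
  · exact (ClassicalGeometry.UnitAutBasic.pr_surjective).comp e.surjective
  · intro g hg g'
    have h1 : e g ∈ Subgroup.center (SU n F q) := (QuotientGroup.eq_one_iff _).1 hg
    apply e.injective
    rw [map_mul, map_mul]
    exact ((Subgroup.mem_center_iff.1 h1) (e g')).symm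
  · intro g hg
    have h1 : e g ∈ Subgroup.center (SU n F q) := (QuotientGroup.eq_one_iff _).1 hg
    apply e.injective
    rw [map_pow, map_one]
    obtain ⟨c, hc, hx⟩ := ClassicalGeometry.UnitAutBasic.exists_scalar_of_mem_center hF hn h1
    apply ext_act
    intro v
    have h2 : ∀ k : ℕ, act ((e g) ^ k) v = c ^ k • v := by
      intro k
      induction k with
      | zero => rw [pow_zero, pow_zero, act_one, one_smul]
      | succ k ih => rw [pow_succ', act_mul, ih, act_smul, hx, smul_smul, pow_succ]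
    rw [h2, act_one, pow_succ', hc, one_smul]
  · intro σ g g' m hm hg hg' h
    obtain ⟨A⟩ := exists_semi hF hn h32 σ (g := e g) (g' := e g') h
    have hc := A.c_eq_one hm (by omega) (by rw [← map_pow, hg, map_one]) (by rw [← map_pow, hg', map_one])
    refine ⟨(b.equivFun.toEquiv.trans A.Φ).trans b.equivFun.toEquiv.symm, A.ρ, ?_, ?_, ?_⟩
    · intro v w
      show b.equivFun.symm (A.Φ (b.equivFun (v + w))) = b.equivFun.symm (A.Φ (b.equivFun v)) +
        b.equivFun.symm (A.Φ (b.equivFun w))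
      rw [map_add, A.add, map_add]
    · intro a v
      show b.equivFun.symm (A.Φ (b.equivFun (a • v))) = A.ρ a • b.equivFun.symm (A.Φ (b.equivFun v))
      rw [map_smul, A.smul, map_smul]
    · intro v
      show g'.1 (b.equivFun.symm (A.Φ (b.equivFun v))) = b.equivFun.symm (A.Φ (b.equivFun (g.1 v)))
      apply b.equivFun.injective
      rw [← he, LinearEquiv.apply_symm_apply, LinearEquiv.apply_symm_apply, ← he, A.eq, hc, one_smul]

end iso

namespace PhiD

variable {F : Type} [Field F] [Fintype F] {q : ℕ} {hF : Fintype.card F = q ^ 2}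
  {V : Type} [AddCommGroup V] [Module F V] {n : ℕ} {S : V →ₛₗ[(conj hF).toRingHom] V →ₗ[F] F}

theorem eq_one (P : PhiD hF S n) {g : SUs S} {m : ℕ} (hm : m.Coprime (q + 1)) (hg : g ^ m = 1) (h : P.φ g = 1) :
    g = 1 := by
  have h1 := pow_gcd_eq_one.2 ⟨hg, P.ker_pow g h⟩
  rwa [hm, pow_one] at h1

theorem orderOf_eq (P : PhiD hF S n) {g : SUs S} {m : ℕ} (hm : m.Coprime (q + 1)) (hg : g ^ m = 1) :
    orderOf (P.φ g) = orderOf g := by
  rw [orderOf_eq_orderOf_iff]
  intro k
  constructor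
  · intro h
    rw [← map_pow] at h
    exact P.eq_one hm (by rw [← pow_mul, mul_comm, pow_mul, hg, one_pow]) h
  · intro h
    rw [← map_pow, h, map_one]

/-- `p`-elements -/
theorem el (P : PhiD hF S n) {p : ℕ} [hp : Fact p.Prime] (hq : p.Coprime (q + 1)) {g : SUs S} {k : ℕ}
    (hg : g ^ p ^ k = 1) (hg1 : g ≠ 1) : El p (P.φ g) := by
  have hm : (p ^ k).Coprime (q + 1) := Nat.Coprime.pow_left _ hq
  refine ⟨?_, fun h => hg1 (P.eq_one hm hg h)⟩
  obtain ⟨t, -, ht⟩ := (Nat.dvd_prime_pow hp.out).1 (orderOf_dvd_of_pow_eq_one hg)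
  exact ⟨t, by rw [P.orderOf_eq hm hg, ht]⟩

/-- Elements with different fixed spaces are not conjugate. -/
theorem ne_of_fix (P : PhiD hF S n) [Finite V] {g g' : SUs S} {m : ℕ} (hm : m.Coprime (q + 1)) (hg : g ^ m = 1)
    (hg' : g' ^ m = 1) (h : {v : V | g.1 v = v}.ncard ≠ {v : V | g'.1 v = v}.ncard)
    (σ : PSU n F q ≃* PSU n F q) : σ (P.φ g) ≠ P.φ g' := by
  intro hσ
  obtain ⟨Φ, ρ, -, -, hΦ⟩ := P.semi σ g g' m hm hg hg' hσ
  apply h
  have h1 : {v : V | g'.1 v = v} = Φ '' {v : V | g.1 v = v} := by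
    ext w
    obtain ⟨v, rfl⟩ := Φ.surjective w
    constructor
    · intro h2
      have h3 : g'.1 (Φ v) = Φ v := h2
      rw [hΦ] at h3
      exact ⟨v, Φ.injective h3, rfl⟩
    · rintro ⟨u, hu, huv⟩
      have h4 : u = v := Φ.injective huv
      have h5 : g.1 v = v := h4 ▸ hu
      show g'.1 (Φ v) = Φ v
      rw [hΦ, h5]
  rw [h1, Set.ncard_image_of_injective _ Φ.injective]

end PhiD

end Cfsg.Agent.H166.K6
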